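import Cfsg.Agent.GLTwoThree.Hexagon
import Cfsg.Agent.SteinbergSL.Presentation
import Cfsg.Agent.Classical.Linear.Simple
import Cfsg.Agent.Classical.Linear.Card
import Mathlib

/-!
A group of order 5616 with an involution centralizer GL(2,3) is PSL(3,3).
-/

set_option autoImplicit false

namespace CfsgLib.GLTwoThree

open Cfsg Matrix

universe u

theorem cm_pow {G : Type u} [Group G] {x y z : G} (h : cm x y = z) (hzx : Commute z x)
    (hzy : Commute z y) (m n : ℕ) : cm (x ^ m) (y ^ n) = z ^ (m * n) := by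
  have h1 : x * y ^ n * x⁻¹ = z ^ n * y ^ n := by
    rw [← conj_pow, show x * y * x⁻¹ = z * y by rw [← h, cm]; group, hzy.mul_pow]
  have h2 : x ^ m * y ^ n * (x ^ m)⁻¹ = z ^ (m * n) * y ^ n := by
    induction m with
    | zero => simp
    | succ k ih =>
      rw [show x ^ (k + 1) * y ^ n * (x ^ (k + 1))⁻¹ = x * (x ^ k * y ^ n * (x ^ k)⁻¹) * x⁻¹ by
        rw [pow_succ']; group, ih, ← conj_mul, h1, ← (hzx.pow_left (k * n)).eq, mul_inv_cancel_right,
        ← mul_assoc, ← pow_add, Nat.succ_mul]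
  rw [cm, h2, mul_inv_cancel_right]

theorem card_zmod_three : Fintype.card (ZMod 3) = 3 := ZMod.card 3

theorem center_sl_three : Subgroup.center (Matrix.SpecialLinearGroup (Fin 3) (ZMod 3)) = ⊥ := by
  haveI : Fact (Nat.Prime 3) := ⟨by norm_num⟩
  refine Subgroup.eq_bot_of_card_eq _ ?_
  rw [CfsgLib.Classical.Linear.center_sl_card, Fintype.card_fin, ZMod.card]
  rfl

variable {G : Type u} [Group G] [Finite G] {t : G} {ι : M23 →* G}

theorem Hyp.iso_psl (h : Hyp t ι) (hN : Nat.card G = 5616) :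
    ∃ (F : Type) (_ : Field F) (_ : Fintype F), Fintype.card F = 3 ∧
      Nonempty (G ≃* Matrix.ProjectiveSpecialLinearGroup (Fin 3) F) := by
  haveI : Fact (Nat.Prime 3) := ⟨by norm_num⟩
  obtain ⟨a, b, c, d, e, f, ha1, ha, hb, hc, hd, he, hf, ⟨kac, kcb, kbd, kde, kef, kfa⟩,
    rab, rdc, rbe, rea, rcf, rfd⟩ := exists_hexagon h hN
  let R : Fin 3 → Fin 3 → G := ![![1, a, c], ![d, 1, b], ![e, f, 1]]
  have hR3 : ∀ i j, R i j ^ 3 = 1 := by
    intro i j; fin_cases i <;> fin_cases j <;> simp [R, ha, hb, hc, hd, he, hf]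
  let y : Fin 3 → Fin 3 → ZMod 3 → G := fun i j v => R i j ^ v.val
  have hadd : ∀ i j : Fin 3, i ≠ j → ∀ u v : ZMod 3, y i j u * y i j v = y i j (u + v) := by
    intro i j _ u v
    simp only [y, ← pow_add, ZMod.val_add]
    exact pow_eq_pow_mod _ (hR3 i j)
  have hcomm : ∀ i j k l : Fin 3, i ≠ j → k ≠ l → j ≠ k → i ≠ l → ∀ u v : ZMod 3,
      y i j u * y k l v = y k l v * y i j u := by
    intro i j k l hij hkl hjk hil u v
    suffices Commute (R i j) (R k l) from (this.pow_left _).pow_right _ |>.eq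
    fin_cases i <;> fin_cases j <;> fin_cases k <;> fin_cases l <;>
      simp [R, kac, kcb, kbd, kde, kef, kfa, kac.symm, kcb.symm, kbd.symm, kde.symm, kef.symm,
        kfa.symm] at hij hkl hjk hil ⊢
  have hchev : ∀ i j k : Fin 3, i ≠ j → j ≠ k → i ≠ k → ∀ u v : ZMod 3,
      y i j u * y j k v * (y i j u)⁻¹ * (y j k v)⁻¹ = y i k (u * v) := by
    intro i j k hij hjk hik u v
    have base : cm (R i j) (R j k) = R i k ∧ Commute (R i k) (R i j) ∧ Commute (R i k) (R j k) := by
      fin_cases i <;> fin_cases j <;> fin_cases k <;>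
        simp [R, rab, rdc, rbe, rea, rcf, rfd, kac, kcb, kbd, kde, kef, kfa, kac.symm, kcb.symm,
          kbd.symm, kde.symm, kef.symm, kfa.symm] at hij hjk hik ⊢
    have e := cm_pow base.1 base.2.1 base.2.2 u.val v.val
    simp only [cm] at e
    simp only [y]
    rw [e, ZMod.val_mul]
    exact pow_eq_pow_mod _ (hR3 i k)
  obtain ⟨φ, hφ⟩ := CfsgLib.SteinbergSL.exists_hom_of_relations (ι := Fin 3) (F := ZMod 3)
    (by simp) y hadd hcomm hchev
  haveI : IsSimpleGroup (Matrix.ProjectiveSpecialLinearGroup (Fin 3) (ZMod 3)) :=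
    CfsgLib.Classical.Linear.isSimpleGroup_psl_of_three_le (by simp)
  have hker : φ.ker = ⊥ := by
    let q := QuotientGroup.mk' (Subgroup.center (Matrix.SpecialLinearGroup (Fin 3) (ZMod 3)))
    have hn : (φ.ker.map q).Normal := Subgroup.Normal.map inferInstance q (QuotientGroup.mk'_surjective _)
    have hq : Function.Injective q := by
      rw [← MonoidHom.ker_eq_bot_iff, QuotientGroup.ker_mk', center_sl_three]
    rcases hn.eq_bot_or_eq_top with e0 | e0
    · exact (Subgroup.map_eq_bot_iff_of_injective _ hq).mp e0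
    · exfalso
      have htop : φ.ker = ⊤ := by
        apply Subgroup.map_injective hq
        rw [e0]
        exact (Subgroup.map_top_of_surjective q (QuotientGroup.mk'_surjective _)).symm
      have h01 : ((0 : Fin 3) : Fin 3) ≠ 1 := by decide
      have := hφ 0 1 h01 1
      rw [MonoidHom.mem_ker.mp (htop ▸ Subgroup.mem_top _)] at this
      exact ha1 (by simpa [y, R, ZMod.val_one] using this.symm)
  have hinj : Function.Injective φ := (MonoidHom.ker_eq_bot_iff φ).mp hker
  have hcard : Nat.card (Matrix.SpecialLinearGroup (Fin 3) (ZMod 3)) = 5616 := by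
    have := CfsgLib.Classical.Linear.card_sl (F := ZMod 3) 3 (by norm_num)
    rw [Fin.prod_univ_three, ZMod.card] at this
    simp only [Fin.val_zero, Fin.val_one, Fin.val_two] at this
    norm_num [-Nat.card_eq_fintype_card] at this
    omega
  have hbij : Function.Bijective φ := (Nat.bijective_iff_injective_and_card _).mpr ⟨hinj, by rw [hcard, hN]⟩
  refine ⟨ZMod 3, inferInstance, inferInstance, ZMod.card 3, ⟨((MulEquiv.ofBijective φ hbij).symm).trans ?_⟩⟩
  exact (QuotientGroup.quotientBot.symm).trans (QuotientGroup.quotientMulEquivOfEq center_sl_three.symm)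

end CfsgLib.GLTwoThree
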