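import Cfsg.Agent.GLTwoThree.Order
import Cfsg.Agent.Transfer.ThompsonTransfer
import Mathlib

/-!
From an involution with centralizer GL(2,3) and no normal subgroup of index two to the hypotheses
of the order computation.
-/

set_option autoImplicit false

namespace CfsgLib.GLTwoThree

open Cfsg

universe u

theorem center_facts : (∀ M : Matrix (Fin 2) (Fin 2) (ZMod 3),
      (∀ X : Matrix (Fin 2) (Fin 2) (ZMod 3), X.det ≠ 0 → M * X = X * M) →
        M * M = 1 → M = 1 ∨ M = zM.val) ∧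
    (∀ i : Fin 16, sylEl i * sylEl i = 1 → sylEl i * sylEl 1 = sylEl 1 * sylEl i →
      sylEl i * sylEl 8 = sylEl 8 * sylEl i → sylEl i = 1 ∨ sylEl i = zM) ∧
    (∀ i : Fin 8, rM ≠ fM ^ (i : ℕ)) ∧
    (∀ i : Fin 8, fM ^ (i : ℕ) * fM ^ (i : ℕ) = 1 → fM ^ (i : ℕ) = 1 ∨ fM ^ (i : ℕ) = zM) ∧
    (rM * rM = 1 ∧ rM ≠ 1 ∧ rM ≠ zM ∧ fM ^ 4 ≠ 1 ∧ fM ^ 8 = 1 ∧ sylEl 1 = fM ∧ sylEl 8 = rM ∧
      sylEl 4 = zM) := by
  refine ⟨?_, ?_, ?_, ?_, ?_⟩ <;> decide +kernel

theorem card_M23 : Fintype.card M23 = 48 := by decide +kernel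

variable {G : Type u} [Group G] [Finite G]

theorem exists_hyp (t : G) (ht : orderOf t = 2)
    (e : Subgroup.centralizer ({t} : Set G) ≃* M23)
    (hidx : ∀ M : Subgroup G, M.Normal → M.index ≠ 2) : ∃ ι : M23 →* G, Hyp t ι := by
  obtain ⟨hcen, hTcen, hrQ, hQinv, hrr, hr1, hrz, hf4, hf8, hs1, hs8, hs4⟩ := center_facts
  set C := Subgroup.centralizer ({t} : Set G)
  set ι : M23 →* G := C.subtype.comp e.symm.toMonoidHom with hι
  have hinj : Function.Injective ι := C.subtype_injective.comp e.symm.injective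
  have hmem : ∀ g : G, g * t = t * g → ∃ m, ι m = g := fun g hg =>
    ⟨e ⟨g, Subgroup.mem_centralizer_singleton_iff.mpr hg⟩, by simp [hι]⟩
  have hcomm : ∀ m, ι m * t = t * ι m := fun m =>
    Subgroup.mem_centralizer_singleton_iff.mp (e.symm m).2
  obtain ⟨htt, ht1⟩ : t * t = 1 ∧ t ≠ 1 := by
    refine ⟨by rw [← pow_two, ← ht, pow_orderOf_eq_one], fun hh => ?_⟩
    rw [hh, orderOf_one] at ht
    omega
  have hz : ι zM = t := by
    obtain ⟨m, hm⟩ := hmem t rfl
    have hmm : m * m = 1 := hinj (by rw [map_mul, hm, htt, map_one])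
    have hmc : ∀ X : Matrix (Fin 2) (Fin 2) (ZMod 3), X.det ≠ 0 → m.val * X = X * m.val := by
      intro X hX
      have hh : m * Matrix.GeneralLinearGroup.mkOfDetNeZero X hX =
          Matrix.GeneralLinearGroup.mkOfDetNeZero X hX * m :=
        hinj (by rw [map_mul, map_mul, hm]; exact (hcomm _).symm)
      exact congrArg Units.val hh
    rcases hcen m.val hmc (by rw [← Units.val_mul, hmm, Units.val_one]) with h1 | h1
    · exact absurd (by rw [← hm, show m = 1 from Units.ext h1, map_one]) ht1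
    · rw [← show m = zM from Units.ext h1, hm]
  refine ⟨ι, hinj, hz, hmem, ?_⟩
  -- the Sylow 2-subgroup
  set T : Subgroup G := sylT.map ι with hT
  have hcard : Nat.card T = 16 := by
    have hs : Nat.card sylT = 16 := by
      rw [← Nat.card_congr (Equiv.ofBijective (fun k => (⟨sylEl k, ⟨k, rfl⟩⟩ : sylT))
        ⟨fun i j hij => sylEl_facts.1 i j (congrArg Subtype.val hij), fun v => by
          obtain ⟨k, hk⟩ := v.2
          exact ⟨k, Subtype.ext hk⟩⟩), Nat.card_fin]
    rw [← hs]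
    exact (Nat.card_congr (sylT.equivMapOfInjective ι hinj).toEquiv).symm
  have hTp : IsPGroup 2 T := IsPGroup.of_card (n := 4) hcard
  obtain ⟨P, hP⟩ := hTp.exists_le_sylow
  have hTC : T ≤ C := by
    rintro _ ⟨m, -, rfl⟩
    exact Subgroup.mem_centralizer_singleton_iff.mpr (hcomm m)
  have hPC : (P : Subgroup G) ⊓ C = T := by
    refine (Subgroup.eq_of_le_of_card_ge (le_inf hP hTC) ?_).symm
    obtain ⟨k, hk⟩ := (IsPGroup.iff_card.mp (P.2.to_le (inf_le_left : (P : Subgroup G) ⊓ C ≤ P)))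
    have hC : Nat.card C = 48 := by
      rw [Nat.card_congr e.toEquiv, Nat.card_eq_fintype_card, card_M23]
    have hdvd : 2 ^ k ∣ 48 := hk ▸ hC ▸ Subgroup.card_dvd_of_le inf_le_right
    have hk4 : k ≤ 4 := by
      by_contra hk5
      exact absurd ((Nat.pow_dvd_pow 2 (show 5 ≤ k by omega)).trans hdvd) (by norm_num)
    rw [hk, hcard]
    exact (Nat.pow_le_pow_right two_pos hk4).trans (by norm_num)
  have hPT : (P : Subgroup G) = T := by
    refine le_antisymm ?_ hP
    have hN : Subgroup.normalizer ((T.subgroupOf (P : Subgroup G) : Subgroup P) : Set P) ≤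
        T.subgroupOf (P : Subgroup G) := by
      intro g hg
      rw [Subgroup.mem_subgroupOf, ← hPC]
      refine ⟨g.2, Subgroup.mem_centralizer_singleton_iff.mpr ?_⟩
      have htT : t ∈ T := ⟨zM, ⟨4, hs4⟩, hz⟩
      have hconj : ∀ x ∈ T, (g : G) * x * (g : G)⁻¹ ∈ T := fun x hx =>
        Subgroup.mem_subgroupOf.mp ((Subgroup.mem_normalizer_iff.mp hg ⟨x, hP hx⟩).mp hx)
      obtain ⟨_, ⟨i, rfl⟩, hi⟩ := hconj t htT
      have hci : ∀ j, sylEl i * sylEl j = sylEl j * sylEl i := by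
        intro j
        have hjT : ι (sylEl j) ∈ T := ⟨_, ⟨j, rfl⟩, rfl⟩
        have hback : (g : G)⁻¹ * ι (sylEl j) * g ∈ T := by
          have := (Subgroup.mem_normalizer_iff.mp hg
            ⟨(g : G)⁻¹ * ι (sylEl j) * g, mul_mem (mul_mem (inv_mem g.2) (hP hjT)) g.2⟩).mpr (by
              rw [Subgroup.mem_subgroupOf]
              simpa [mul_assoc] using hjT)
          exact Subgroup.mem_subgroupOf.mp this
        obtain ⟨m, -, hm⟩ := hback
        have hc := hcomm m
        rw [hm] at hc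
        refine hinj ?_
        rw [map_mul, map_mul, hi]
        calc (g : G) * t * (g : G)⁻¹ * ι (sylEl j)
            = (g : G) * (t * ((g : G)⁻¹ * ι (sylEl j) * g)) * (g : G)⁻¹ := by group
          _ = (g : G) * (((g : G)⁻¹ * ι (sylEl j) * g) * t) * (g : G)⁻¹ := by rw [← hc]
          _ = ι (sylEl j) * ((g : G) * t * (g : G)⁻¹) := by group
      have hsq : sylEl i * sylEl i = 1 := hinj (by
        rw [map_mul, hi, map_one, show (g : G) * t * (g : G)⁻¹ * ((g : G) * t * (g : G)⁻¹) =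
          (g : G) * (t * t) * (g : G)⁻¹ by group, htt, mul_one, mul_inv_cancel])
      rcases hTcen i hsq (hci 1) (hci 8) with h1 | h1
      · refine absurd ?_ ht1
        rw [h1, map_one] at hi
        exact conj_eq_one_iff.mp hi.symm
      · rw [h1, hz] at hi
        exact mul_inv_eq_iff_eq_mul.mp hi.symm
    have htop : T.subgroupOf (P : Subgroup G) = ⊤ := by
      by_contra hne
      haveI : Group.IsNilpotent P := P.2.isNilpotent
      exact absurd hN (not_le_of_gt
        (Group.normalizerCondition_of_isNilpotent _ (lt_top_iff_ne_top.mpr hne)))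
    exact Subgroup.subgroupOf_eq_top.mp htop
  -- transfer
  set Q : Subgroup G := Subgroup.zpowers (ι fM) with hQ
  have hQP : Q ≤ (P : Subgroup G) := by
    rw [hPT, hQ, Subgroup.zpowers_le]
    exact ⟨fM, ⟨1, hs1⟩, rfl⟩
  have hord : orderOf fM = 8 := orderOf_eq_prime_pow (p := 2) (n := 2) hf4 hf8
  have hQ8 : Nat.card Q = 8 := by rw [Nat.card_zpowers, orderOf_injective ι hinj, hord]
  have hQi : Q.relIndex (P : Subgroup G) = 2 := by
    have h := (Q.subgroupOf (P : Subgroup G)).card_mul_index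
    rw [Nat.card_congr (Subgroup.subgroupOfEquivOfLe hQP).toEquiv, hQ8, hPT, hcard] at h
    rw [Subgroup.relIndex, hPT]
    omega
  have hQel : ∀ x ∈ Q, ∃ i : Fin 8, x = ι (fM ^ (i : ℕ)) := by
    intro x hx
    obtain ⟨k, rfl⟩ := (mem_powers_iff_mem_zpowers).mpr hx
    refine ⟨⟨k % 8, Nat.mod_lt _ (by norm_num)⟩, ?_⟩
    change (ι fM) ^ k = _
    rw [← map_pow]
    exact congrArg ι (pow_eq_pow_mod k hf8)
  have hu : orderOf (ι rM) = 2 := by
    rw [orderOf_injective ι hinj]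
    exact orderOf_eq_prime (by rw [pow_two]; exact hrr) hr1
  have huP : ι rM ∈ (P : Subgroup G) := by
    rw [hPT]
    exact ⟨rM, ⟨8, hs8⟩, rfl⟩
  have huQ : ι rM ∉ Q := fun hh => by
    obtain ⟨i, hi⟩ := hQel _ hh
    exact hrQ i (hinj hi)
  rcases CfsgLib.Transfer.thompsonTransferLemma P Q hQP hQi (ι rM) hu huP huQ with
    ⟨M, hMn, hM2, -⟩ | ⟨g, hg⟩
  · exact absurd hM2 (hidx M hMn)
  obtain ⟨i, hi⟩ := hQel _ hg
  have hrsq : ι rM * ι rM = 1 := by rw [← map_mul, hrr, map_one]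
  have hsq : fM ^ (i : ℕ) * fM ^ (i : ℕ) = 1 := hinj (by
    rw [map_mul, map_one, ← hi,
      show g * ι rM * g⁻¹ * (g * ι rM * g⁻¹) = g * (ι rM * ι rM) * g⁻¹ by group,
      hrsq, mul_one, mul_inv_cancel])
  have hr : IsConj t (ι rM) := by
    rcases hQinv i hsq with h1 | h1
    · exfalso
      rw [h1, map_one] at hi
      exact hr1 (hinj ((conj_eq_one_iff.mp hi).trans (map_one ι).symm))
    · rw [h1, hz] at hi
      exact (isConj_iff.mpr ⟨g, hi⟩).symm
  rcases invol_cases rM.val (by rw [← Units.val_mul, hrr, Units.val_one]) with h | h | ⟨X, hX, h⟩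
  · exact absurd (Units.ext h) hr1
  · exact absurd (Units.ext h) hrz
  · refine hr.trans (ι.map_isConj (isConj_iff.mpr
      ⟨Matrix.GeneralLinearGroup.mkOfDetNeZero X hX, ?_⟩)).symm
    rw [mul_inv_eq_iff_eq_mul]
    exact Units.ext h

end CfsgLib.GLTwoThree
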