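import Mathlib

/-!
The combinatorial core for an involution centralizer GL(2,3): five integral columns with
prescribed inner products determine seven exceptional characters, whose signed degrees satisfy
`(U - 9) * (X + 9) = -72`.
-/

set_option autoImplicit false

namespace CfsgLib.GLTwoThree

variable {I : Type*} [Fintype I]

theorem sq_eq_one_of_le_three {v : ℤ} (h : v * v ≤ 3) (h0 : v ≠ 0) : v * v = 1 := by
  have : -1 ≤ v ∧ v ≤ 1 := by constructor <;> nlinarith
  rcases (show v = 1 ∨ v = -1 by omega) with e | e <;> subst e <;> norm_num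

theorem card_support {v : I → ℤ} {n : ℕ} (hn : n ≤ 3) (h : ∑ i, v i * v i = n) :
    ∃ S : Finset I, S.card = n ∧ (∀ i ∈ S, v i * v i = 1) ∧ ∀ i, i ∉ S → v i = 0 := by
  classical
  refine ⟨Finset.univ.filter fun i => v i ≠ 0, ?_, ?_, fun i hi => by simpa using hi⟩
  rotate_left
  · intro i hi
    refine sq_eq_one_of_le_three ?_ (Finset.mem_filter.mp hi).2
    have := Finset.single_le_sum (f := fun i => v i * v i) (fun _ _ => mul_self_nonneg _)
      (Finset.mem_univ i)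
    have h3 : (n : ℤ) ≤ 3 := by exact_mod_cast hn
    linarith
  · have hsum : ∑ i, v i * v i = ∑ i ∈ Finset.univ.filter (fun i => v i ≠ 0), (1 : ℤ) := by
      rw [Finset.sum_filter]
      refine Finset.sum_congr rfl fun i _ => ?_
      split_ifs with hi
      · refine sq_eq_one_of_le_three ?_ hi
        have := Finset.single_le_sum (f := fun i => v i * v i) (fun _ _ => mul_self_nonneg _)
          (Finset.mem_univ i)
        have h3 : (n : ℤ) ≤ 3 := by exact_mod_cast hn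
        linarith
      · simp [not_not.mp hi]
    rw [h, Finset.sum_const, nsmul_one] at hsum
    exact_mod_cast hsum.symm

theorem sum_support {α : Type*} [AddCommMonoid α] {S : Finset I} {f : I → α}
    (h : ∀ i, i ∉ S → f i = 0) : ∑ i, f i = ∑ i ∈ S, f i :=
  (Finset.sum_subset (Finset.subset_univ S) fun i _ hi => h i hi).symm

/-- The column of values on the involution. -/
def colT (a b c u w : ℤ) : ℤ := c + u + 4 * b + 2 * a - 2 * w
/-- The column of values on an element of order six. -/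
def colSix (a b c u w : ℤ) : ℤ := c + u - 2 * b - a + w
/-- The column of values on an element of order four. -/
def colFour (c u w : ℤ) : ℤ := 2 * w + (c + u)
/-- The real part of the column of values on an element of order eight. -/
def colEight (c u : ℤ) : ℤ := c - u

theorem solve_small {U X : ℤ} (hU : (16 : ℤ) ∣ U + 5) (hX : (16 : ℤ) ∣ X + 13)
    (h : (U - 9) * (X + 9) = -72) : (U = 11 ∧ X = -45) ∨ (U = 27 ∧ X = -13) := by
  obtain ⟨m, hm⟩ := hU
  obtain ⟨k, hk⟩ := hX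
  have hne : X + 9 ≠ 0 := fun e => by rw [e] at h; norm_num at h
  have hU9 : U - 9 ∣ 72 := ⟨-(X + 9), by linarith⟩
  have h1 := Int.le_of_dvd (by norm_num) hU9
  have h2 := Int.le_of_dvd (by norm_num) (Int.neg_dvd.mpr hU9)
  have hm1 : -5 ≤ m ∧ m ≤ 5 := by omega
  obtain ⟨hm1, hm2⟩ := hm1
  interval_cases m <;>
    · have hUv : U = _ := eq_sub_of_add_eq hm
      subst hUv
      omega

theorem key_small {ε k x y u₁ u₂ : ℤ} (hε : ε * ε = 1) (hxy : x + y = -2) (hu : y + (u₁ + u₂) = -2)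
    (hle : k * k + k * k + (k + ε) * (k + ε) + x * x + y * y + u₁ * u₁ + u₂ * u₂ ≤ 4) :
    k = 0 ∧ x = -1 ∧ y = -1 ∧ ((u₁ = -1 ∧ u₂ = 0) ∨ (u₁ = 0 ∧ u₂ = -1)) := by
  have n1 := mul_self_nonneg k
  have n2 := mul_self_nonneg x
  have n3 := mul_self_nonneg y
  have n4 := mul_self_nonneg u₁
  have n5 := mul_self_nonneg u₂
  have n6 := mul_self_nonneg (k + ε)
  have hk : 1 ≤ k * k + (k + ε) * (k + ε) := by
    by_contra hc
    have h0 : k * k = 0 := by linarith
    have h1 : (k + ε) * (k + ε) = 0 := by linarith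
    rw [mul_self_eq_zero.mp h0, zero_add, hε] at h1
    norm_num at h1
  have hx : x = -2 - y := by linarith
  subst hx
  have hy : y = -1 := by
    by_contra hy
    have h1 : 0 < (y + 1) * (y + 1) := mul_self_pos.mpr (fun e => hy (by linarith))
    have h2 : (-2 - y) * (-2 - y) + y * y = 2 * ((y + 1) * (y + 1)) + 2 := by ring
    linarith
  subst hy
  have hk0 : k = 0 := by
    by_contra h0
    have h1 : 0 < k * k := mul_self_pos.mpr h0
    have hsum : u₁ + u₂ = -1 := by linarith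
    have h2 : 0 < u₁ * u₁ + u₂ * u₂ := by
      rcases eq_or_ne u₁ 0 with e | e
      · have h3 : u₂ = -1 := by linarith
        rw [e, h3]; norm_num
      · linarith [mul_self_pos.mpr e]
    linarith
  subst hk0
  rw [zero_add, hε] at hle
  refine ⟨rfl, by norm_num, rfl, ?_⟩
  have hsum : u₂ = -1 - u₁ := by linarith
  subst hsum
  have hb : -1 ≤ u₁ ∧ u₁ ≤ 1 := by constructor <;> nlinarith
  rcases (show u₁ = -1 ∨ u₁ = 0 ∨ u₁ = 1 by omega) with e | e | e <;> subst e
  · exact .inl ⟨rfl, by norm_num⟩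
  · exact .inr ⟨rfl, by norm_num⟩
  · norm_num at hle

set_option maxHeartbeats 1600000 in
/-- The order of the group. -/
theorem order_eq (one : I) (δ a b c u w : I → ℤ) (N : ℕ)
    (hδ : ∀ i, 0 < δ i)
    (hone : δ one = 1 ∧ a one = 0 ∧ b one = 0 ∧ c one = 1 ∧ u one = 0 ∧ w one = 0)
    (haa : ∑ i, a i * a i = 2) (hbb : ∑ i, b i * b i = 2) (hcc : ∑ i, c i * c i = 3)
    (huu : ∑ i, u i * u i = 3) (hww : ∑ i, w i * w i = 4)
    (hab : ∑ i, a i * b i = -1) (hac : ∑ i, a i * c i = 0) (hau : ∑ i, a i * u i = 0)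
    (haw : ∑ i, a i * w i = 0) (hbc : ∑ i, b i * c i = 0) (hbu : ∑ i, b i * u i = 0)
    (hbw : ∑ i, b i * w i = 1) (hcu : ∑ i, c i * u i = 1) (hcw : ∑ i, c i * w i = -2)
    (huw : ∑ i, u i * w i = -2)
    (hda : ∑ i, δ i * a i = 0) (hdb : ∑ i, δ i * b i = 0) (hdc : ∑ i, δ i * c i = 0)
    (hdu : ∑ i, δ i * u i = 0) (hdw : ∑ i, δ i * w i = 0)
    (hcong : ∀ i, (16 : ℤ) ∣ δ i + 5 * colT (a i) (b i) (c i) (u i) (w i)
      + 6 * colFour (c i) (u i) (w i) + 4 * colEight (c i) (u i))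
    (hEight : ∑ i, (colT (a i) (b i) (c i) (u i) (w i) : ℚ) ^ 2 / (δ i : ℚ) *
      (colEight (c i) (u i) : ℚ) = 0)
    (hSix : ∑ i, (colT (a i) (b i) (c i) (u i) (w i) : ℚ) ^ 2 / (δ i : ℚ) *
      (colSix (a i) (b i) (c i) (u i) (w i) : ℚ) = 13824 / N) :
    N = 5616 ∨ N = 7920 := by
  classical
  obtain ⟨ho1, hoa, hob, hoc, hou, how⟩ := hone
  -- the first two columns
  obtain ⟨Sa, hSa, hSa1, hSa0⟩ := card_support (by norm_num : (2 : ℕ) ≤ 3) haa
  obtain ⟨Sb, hSb, hSb1, hSb0⟩ := card_support (by norm_num : (2 : ℕ) ≤ 3) hbb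
  obtain ⟨p, hpa, hpb⟩ : ∃ p, p ∈ Sa ∧ p ∈ Sb := by
    by_contra hne
    rw [sum_support (S := Sa) (f := fun i => a i * b i) (fun i hi => by rw [hSa0 i hi, zero_mul]),
      Finset.sum_eq_zero (fun i hi => by
        rw [hSb0 i (fun h => hne ⟨i, hi, h⟩), mul_zero])] at hab
    norm_num at hab
  obtain ⟨q, hq⟩ := Finset.card_eq_one.mp
    (show (Sa.erase p).card = 1 by rw [Finset.card_erase_of_mem hpa, hSa])
  obtain ⟨r, hr⟩ := Finset.card_eq_one.mp
    (show (Sb.erase p).card = 1 by rw [Finset.card_erase_of_mem hpb, hSb])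
  have hq' := (Finset.mem_erase.mp (hq ▸ Finset.mem_singleton_self q : q ∈ Sa.erase p))
  have hr' := (Finset.mem_erase.mp (hr ▸ Finset.mem_singleton_self r : r ∈ Sb.erase p))
  have hSa' : Sa = {p, q} := by rw [← Finset.insert_erase hpa, hq]
  have hSb' : Sb = {p, r} := by rw [← Finset.insert_erase hpb, hr]
  have ha0 : ∀ i, i ≠ p → i ≠ q → a i = 0 := fun i h1 h2 => hSa0 i (by simp [hSa', h1, h2])
  have hb0 : ∀ i, i ≠ p → i ≠ r → b i = 0 := fun i h1 h2 => hSb0 i (by simp [hSb', h1, h2])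
  have hsumA : ∀ g : I → ℤ, ∑ i, a i * g i = a p * g p + a q * g q := fun g => by
    rw [sum_support (S := Sa) (f := fun i => a i * g i) (fun i hi => by rw [hSa0 i hi, zero_mul]),
      hSa', Finset.sum_pair hq'.1.symm]
  have hsumB : ∀ g : I → ℤ, ∑ i, b i * g i = b p * g p + b r * g r := fun g => by
    rw [sum_support (S := Sb) (f := fun i => b i * g i) (fun i hi => by rw [hSb0 i hi, zero_mul]),
      hSb', Finset.sum_pair hr'.1.symm]
  have hqr : q ≠ r := by
    rintro rfl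
    rw [hsumA] at hab
    have e1 := hSa1 p hpa
    have e2 := hSa1 q hq'.2
    have e3 := hSb1 p hpb
    have e4 := hSb1 q hr'.2
    rcases mul_self_eq_one_iff.mp e1 with x | x <;> rcases mul_self_eq_one_iff.mp e2 with y | y <;>
      rcases mul_self_eq_one_iff.mp e3 with z | z <;> rcases mul_self_eq_one_iff.mp e4 with v | v <;>
      simp [x, y, z, v] at hab
  obtain ⟨ε, hεd⟩ : ∃ ε, ε = a p := ⟨_, rfl⟩
  have hε : ε * ε = 1 := hεd ▸ hSa1 p hpa
  have hbp : b p = -ε := by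
    rw [hsumA, hb0 q hq'.1 hqr, mul_zero, add_zero, ← hεd] at hab
    calc b p = ε * (ε * b p) := by rw [← mul_assoc, hε, one_mul]
      _ = -ε := by rw [hab]; ring
  have hsq : ∀ {x : ℤ}, x * x = 1 → x = 1 ∨ x = -1 := fun h => mul_self_eq_one_iff.mp h
  have hab1 : a q = -ε ∧ δ q = δ p := by
    have h := hsumA δ
    rw [Finset.sum_congr rfl (fun i _ => mul_comm (a i) (δ i)), hda, ← hεd] at h
    rcases hsq hε with e | e <;> rcases hsq (hSa1 q hq'.2) with e' | e' <;>
      (rw [e, e'] at h; refine ⟨?_, ?_⟩ <;> linarith [hδ p, hδ q])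
  obtain ⟨haq, hδq⟩ := hab1
  have hab2 : b r = ε ∧ δ r = δ p := by
    have h := hsumB δ
    rw [Finset.sum_congr rfl (fun i _ => mul_comm (b i) (δ i)), hdb, hbp] at h
    rcases hsq hε with e | e <;> rcases hsq (hSb1 r hr'.2) with e' | e' <;>
      (rw [e, e'] at h; refine ⟨?_, ?_⟩ <;> linarith [hδ p, hδ r])
  obtain ⟨hbr, hδr⟩ := hab2
  have hε0 : ε ≠ 0 := fun e => by rw [e, zero_mul] at hε; exact one_ne_zero hε.symm
  have hone_ne : one ≠ p ∧ one ≠ q ∧ one ≠ r := by
    refine ⟨fun e => hε0 (by rw [hεd, ← e, hoa]), fun e => hε0 ?_, fun e => hε0 ?_⟩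
    · rw [← e, hoa] at haq; linarith
    · rw [← e, hob] at hbr; exact hbr.symm
  obtain ⟨hop, hoq, hor⟩ := hone_ne
  have horth : ∀ g : I → ℤ, ∑ i, a i * g i = 0 → ∑ i, b i * g i = 0 → g q = g p ∧ g r = g p := by
    intro g h1 h2
    rw [hsumA, ← hεd, haq] at h1
    rw [hsumB, hbp, hbr] at h2
    exact ⟨by linarith [mul_left_cancel₀ hε0 (show ε * g p = ε * g q by linarith)],
      by linarith [mul_left_cancel₀ hε0 (show ε * g p = ε * g r by linarith)]⟩
  -- the columns `c` and `u`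
  obtain ⟨hcq, hcr⟩ := horth c hac hbc
  have hcp : c p = 0 := by
    by_contra h0
    have hle := Finset.sum_le_sum_of_subset_of_nonneg (f := fun i => c i * c i)
      (Finset.subset_univ {one, p, q, r}) (fun i _ _ => mul_self_nonneg _)
    rw [hcc, Finset.sum_insert (by simp [hop, hoq, hor]), Finset.sum_insert (by
      simp [Ne.symm hq'.1, Ne.symm hr'.1]), Finset.sum_pair hqr, hoc, hcq, hcr] at hle
    have : 0 < c p * c p := mul_self_pos.mpr h0
    linarith
  obtain ⟨Sc, hSc, hSc1, hSc0⟩ := card_support (by norm_num : (3 : ℕ) ≤ 3) hcc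
  have honec : one ∈ Sc := by
    by_contra h; rw [hSc0 one h] at hoc; norm_num at hoc
  obtain ⟨hu_q, hu_r⟩ := horth u hau hbu
  obtain ⟨Su, hSu, hSu1, hSu0⟩ := card_support (by norm_num : (3 : ℕ) ≤ 3) huu
  have hup : u p = 0 := by
    by_contra h0
    have hin : ∀ i, u i = u p → i ∈ Su := fun i hi => by
      by_contra h; exact h0 (hi ▸ hSu0 i h)
    have hset : Su = {p, q, r} := by
      refine (Finset.eq_of_subset_of_card_le ?_ ?_).symm
      · intro i hi
        simp only [Finset.mem_insert, Finset.mem_singleton] at hi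
        rcases hi with e | e | e <;> subst e
        exacts [hin _ rfl, hin _ hu_q, hin _ hu_r]
      · rw [hSu, Finset.card_insert_of_notMem (by simp [Ne.symm hq'.1, Ne.symm hr'.1]),
          Finset.card_pair hqr]
    rw [sum_support (S := Su) (f := fun i => δ i * u i) (fun i hi => by rw [hSu0 i hi, mul_zero]),
      hset, Finset.sum_insert (by simp [Ne.symm hq'.1, Ne.symm hr'.1]), Finset.sum_pair hqr,
      hu_q, hu_r, hδq, hδr] at hdu
    have : u p * δ p = 0 := by linarith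
    rcases mul_eq_zero.mp this with e | e
    · exact h0 e
    · exact (hδ p).ne' e
  obtain ⟨X', Y', hXY', hc2⟩ := Finset.card_eq_two.mp
    (show (Sc.erase one).card = 2 by rw [Finset.card_erase_of_mem honec, hSc])
  obtain ⟨X, Y, hXY, hc3, hYu, hXu⟩ : ∃ X Y, X ≠ Y ∧ Sc.erase one = {X, Y} ∧ c Y * u Y = 1 ∧
      u X = 0 := by
    have h := hcu
    rw [sum_support (S := Sc) (f := fun i => c i * u i) (fun i hi => by rw [hSc0 i hi, zero_mul]),
      ← Finset.insert_erase honec, Finset.sum_insert (Finset.notMem_erase _ _), hou, mul_zero,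
      zero_add, hc2, Finset.sum_pair hXY'] at h
    have hX1 : X' ∈ Sc := (Finset.mem_erase.mp (by rw [hc2]; simp : X' ∈ Sc.erase one)).2
    have hY1 : Y' ∈ Sc := (Finset.mem_erase.mp (by rw [hc2]; simp : Y' ∈ Sc.erase one)).2
    by_cases hx : u X' = 0
    · exact ⟨X', Y', hXY', hc2, by rw [hx, mul_zero, zero_add] at h; exact h, hx⟩
    · by_cases hy : u Y' = 0
      · exact ⟨Y', X', hXY'.symm, by rw [hc2, Finset.pair_comm],
          by rw [hy, mul_zero, add_zero] at h; exact h, hy⟩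
      · exfalso
        have e1 := hSu1 X' (by by_contra hh; exact hx (hSu0 X' hh))
        have e2 := hSu1 Y' (by by_contra hh; exact hy (hSu0 Y' hh))
        rcases hsq e1 with x | x <;> rcases hsq e2 with y | y <;>
          rcases hsq (hSc1 X' hX1) with z | z <;> rcases hsq (hSc1 Y' hY1) with v | v <;>
          simp [x, y, z, v] at h
  have hXmem := Finset.mem_erase.mp (by rw [hc3]; simp : X ∈ Sc.erase one)
  have hYmem := Finset.mem_erase.mp (by rw [hc3]; simp : Y ∈ Sc.erase one)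
  have hcX := hSc1 X hXmem.2
  have hcY := hSc1 Y hYmem.2
  have hc0 : ∀ i, i ≠ one → i ≠ X → i ≠ Y → c i = 0 := fun i h1 h2 h3 => hSc0 i fun hi => by
    have : i ∈ Sc.erase one := Finset.mem_erase.mpr ⟨h1, hi⟩
    rw [hc3] at this
    simp [h2, h3] at this
  have hcX0 : c X ≠ 0 := fun e => by rw [e, zero_mul] at hcX; norm_num at hcX
  have hcY0 : c Y ≠ 0 := fun e => by rw [e, zero_mul] at hcY; norm_num at hcY
  have huY : u Y = c Y := by
    calc u Y = c Y * c Y * u Y := by rw [hcY, one_mul]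
      _ = c Y := by rw [mul_assoc, hYu, mul_one]
  have hYS : Y ∈ Su := by
    by_contra h; exact hcY0 (huY ▸ hSu0 Y h)
  obtain ⟨U', V', hUV', hu2⟩ := Finset.card_eq_two.mp
    (show (Su.erase Y).card = 2 by rw [Finset.card_erase_of_mem hYS, hSu])
  have hne_pqr : ∀ (g : I → ℤ) i, g i ≠ 0 → g p = 0 → g q = 0 → g r = 0 →
      i ≠ p ∧ i ≠ q ∧ i ≠ r := fun g i hi h1 h2 h3 =>
    ⟨fun e => hi (e ▸ h1), fun e => hi (e ▸ h2), fun e => hi (e ▸ h3)⟩
  have hcq0 : c q = 0 := hcq.trans hcp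
  have hcr0 : c r = 0 := hcr.trans hcp
  have huq0 : u q = 0 := hu_q.trans hup
  have hur0 : u r = 0 := hu_r.trans hup
  obtain ⟨hXp, hXq, hXr⟩ := hne_pqr c X hcX0 hcp hcq0 hcr0
  obtain ⟨hYp, hYq, hYr⟩ := hne_pqr c Y hcY0 hcp hcq0 hcr0
  have hUfacts : ∀ i, i ∈ ({U', V'} : Finset I) → u i * u i = 1 ∧ i ≠ Y ∧ i ≠ one ∧ i ≠ X ∧
      i ≠ p ∧ i ≠ q ∧ i ≠ r ∧ c i = 0 := by
    intro i hi
    rw [← hu2, Finset.mem_erase] at hi
    have h1 := hSu1 i hi.2
    have h0 : u i ≠ 0 := fun e => by rw [e, zero_mul] at h1; norm_num at h1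
    obtain ⟨x1, x2, x3⟩ := hne_pqr u i h0 hup huq0 hur0
    have hio : i ≠ one := fun e => h0 (e ▸ hou)
    have hiX : i ≠ X := fun e => h0 (e ▸ hXu)
    exact ⟨h1, hi.1, hio, hiX, x1, x2, x3, hc0 i hio hiX hi.1⟩
  have hu0 : ∀ i, i ≠ Y → i ≠ U' → i ≠ V' → u i = 0 := fun i h1 h2 h3 => hSu0 i fun hi => by
    have : i ∈ Su.erase Y := Finset.mem_erase.mpr ⟨h1, hi⟩
    rw [hu2] at this
    simp [h2, h3] at this
  -- the last column
  have hsumC : ∀ g : I → ℤ, ∑ i, c i * g i = g one + c X * g X + c Y * g Y := fun g => by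
    rw [sum_support (S := Sc) (f := fun i => c i * g i) (fun i hi => by rw [hSc0 i hi, zero_mul]),
      ← Finset.insert_erase honec, Finset.sum_insert (Finset.notMem_erase _ _), hc3,
      Finset.sum_pair hXY, hoc, one_mul, add_assoc]
  have hsumU : ∀ g : I → ℤ, ∑ i, u i * g i = c Y * g Y + (u U' * g U' + u V' * g V') := fun g => by
    rw [sum_support (S := Su) (f := fun i => u i * g i) (fun i hi => by rw [hSu0 i hi, zero_mul]),
      ← Finset.insert_erase hYS, Finset.sum_insert (Finset.notMem_erase _ _), hu2,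
      Finset.sum_pair hUV', huY]
  have hwq : w q = w p := by
    rw [hsumA, ← hεd, haq] at haw
    exact (mul_left_cancel₀ hε0 (show ε * w p = ε * w q by linarith)).symm
  have hwr : w r = w p + ε := by
    rw [hsumB, hbp, hbr] at hbw
    refine mul_left_cancel₀ hε0 ?_
    rw [mul_add, hε]; linarith
  rw [hsumC, how, zero_add] at hcw
  rw [hsumU] at huw
  have hU'f := hUfacts U' (by simp)
  have hV'f := hUfacts V' (by simp)
  set S := ({p, q, r, X, Y, U', V'} : Finset I) with hS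
  have hsum7 : ∀ g : I → ℤ, ∑ i ∈ S, g i = g p + g q + g r + g X + g Y + g U' + g V' := by
    intro g
    rw [hS, Finset.sum_insert, Finset.sum_insert, Finset.sum_insert, Finset.sum_insert,
      Finset.sum_insert, Finset.sum_pair hUV']
    · ring
    all_goals simp [Ne.symm hq'.1, Ne.symm hr'.1, hqr, hXY, Ne.symm hXp, Ne.symm hXq, Ne.symm hXr,
      Ne.symm hYp, Ne.symm hYq, Ne.symm hYr, hU'f.2.1.symm, hV'f.2.1.symm, hU'f.2.2.2.1.symm,
      hV'f.2.2.2.1.symm, hU'f.2.2.2.2.1.symm, hV'f.2.2.2.2.1.symm, hU'f.2.2.2.2.2.1.symm,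
      hV'f.2.2.2.2.2.1.symm, hU'f.2.2.2.2.2.2.1.symm, hV'f.2.2.2.2.2.2.1.symm]
  have hle := Finset.sum_le_sum_of_subset_of_nonneg (f := fun i => w i * w i)
    (Finset.subset_univ S) (fun i _ _ => mul_self_nonneg _)
  rw [hww, hsum7, hwq, hwr] at hle
  have hsqm : ∀ {x v : ℤ}, x * x = 1 → (x * v) * (x * v) = v * v := fun {x v} h => by
    linear_combination (v * v) * h
  rw [← hsqm (v := w X) hcX, ← hsqm (v := w Y) hcY, ← hsqm (v := w U') hU'f.1,
    ← hsqm (v := w V') hV'f.1] at hle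
  have hkey : w p = 0 ∧ c X * w X = -1 ∧ c Y * w Y = -1 ∧
      ((u U' * w U' = -1 ∧ u V' * w V' = 0) ∨ (u U' * w U' = 0 ∧ u V' * w V' = -1)) := by
    exact key_small hε hcw huw (by linarith)
  obtain ⟨hwp, hwX', hwY', hwU'⟩ := hkey
  obtain ⟨U, V, hUV, hUVset, hwU0, hwV0⟩ : ∃ U V, U ≠ V ∧ ({U', V'} : Finset I) = {U, V} ∧
      u U * w U = -1 ∧ u V * w V = 0 := by
    rcases hwU' with ⟨h1, h2⟩ | ⟨h1, h2⟩
    · exact ⟨U', V', hUV', rfl, h1, h2⟩
    · exact ⟨V', U', hUV'.symm, Finset.pair_comm _ _, h2, h1⟩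
  obtain ⟨hU1, hUY, hUo, hUX, hUp, hUq, hUr, hcU⟩ := hUfacts U (by rw [hUVset]; simp)
  obtain ⟨hV1, hVY, hVo, hVX, hVp, hVq, hVr, hcV⟩ := hUfacts V (by rw [hUVset]; simp)
  have hinv : ∀ {x v z : ℤ}, x * x = 1 → x * v = z → v = x * z := fun {x v z} h e => by
    rw [← e, ← mul_assoc, h, one_mul]
  have hwX : w X = -c X := by rw [hinv hcX hwX']; ring
  have hwY : w Y = -c Y := by rw [hinv hcY hwY']; ring
  have hwU : w U = -u U := by rw [hinv hU1 hwU0]; ring
  have hwV : w V = 0 := by rw [hinv hV1 hwV0]; ring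
  -- the vanishing outside the eight characters
  set T := ({one, p, q, r, X, Y, U, V} : Finset I) with hT
  have hsum8 : ∀ {α : Type} [AddCommMonoid α] (g : I → α), (∀ i, i ∉ T → g i = 0) →
      ∑ i, g i = g one + (g p + (g q + (g r + (g X + (g Y + (g U + g V)))))) := by
    intro α _ g hg
    rw [sum_support hg, hT, Finset.sum_insert, Finset.sum_insert, Finset.sum_insert,
      Finset.sum_insert, Finset.sum_insert, Finset.sum_insert, Finset.sum_pair hUV]
    all_goals simp [hop, hoq, hor, hXmem.1.symm, hYmem.1.symm, hUo.symm, hVo.symm, Ne.symm hq'.1,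
      Ne.symm hr'.1, hqr, hXY, hXp.symm, hXq.symm, hXr.symm, hYp.symm, hYq.symm, hYr.symm,
      hUX.symm, hVX.symm, hUY.symm, hVY.symm, hUp.symm, hVp.symm, hUq.symm, hVq.symm, hUr.symm,
      hVr.symm]
  have hw0 : ∀ i, i ∉ T → w i = 0 := by
    intro i hi
    by_contra h0
    have hiS : i ∉ S := by
      intro h
      apply hi
      rw [hS] at h
      simp only [Finset.mem_insert, Finset.mem_singleton] at h
      simp only [hT, Finset.mem_insert, Finset.mem_singleton]
      have hm : i = U' ∨ i = V' → i = U ∨ i = V := by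
        intro hh
        have : i ∈ ({U, V} : Finset I) := hUVset ▸ (by simpa using hh)
        simpa using this
      rcases h with e | e | e | e | e | e | e
      iterate 5 simp [e]
      · rcases hm (.inl e) with e' | e' <;> simp [e']
      · rcases hm (.inr e) with e' | e' <;> simp [e']
    have hle' := Finset.sum_le_sum_of_subset_of_nonneg (f := fun i => w i * w i)
      (Finset.subset_univ (insert i S)) (fun i _ _ => mul_self_nonneg _)
    rw [hww, Finset.sum_insert hiS, hsum7, hwq, hwr, hwp, zero_add, hε, hwX, hwY, neg_mul_neg,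
      neg_mul_neg, hcX, hcY] at hle'
    have hpair : w U' * w U' + w V' * w V' = 1 := by
      rw [← hsqm (v := w U') hU'f.1, ← hsqm (v := w V') hV'f.1]
      rcases hwU' with ⟨h1, h2⟩ | ⟨h1, h2⟩ <;> rw [h1, h2] <;> norm_num
    linarith [mul_self_pos.mpr h0]
  have hall : ∀ i, i ∉ T → a i = 0 ∧ b i = 0 ∧ c i = 0 ∧ u i = 0 ∧ w i = 0 := by
    intro i hi
    have hw := hw0 i hi
    simp only [hT, Finset.mem_insert, Finset.mem_singleton, not_or] at hi
    obtain ⟨x0, x1, x2, x3, x4, x5, x6, x7⟩ := hi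
    refine ⟨ha0 i x1 x2, hb0 i x1 x3, hc0 i x0 x4 x5, hu0 i x5 ?_ ?_, hw⟩
    all_goals
      intro e
      have h : i ∈ ({U, V} : Finset I) := hUVset ▸ (by simp [e])
      simp [x6, x7] at h
  have haO : ∀ i, i ≠ p → i ≠ q → a i = 0 := ha0
  -- signed degrees
  obtain ⟨g, hg⟩ : ∃ g, g = ε * δ p := ⟨_, rfl⟩
  obtain ⟨xd, hxd⟩ : ∃ x, x = c X * δ X := ⟨_, rfl⟩
  obtain ⟨yd, hyd⟩ : ∃ y, y = c Y * δ Y := ⟨_, rfl⟩
  obtain ⟨ud, hud⟩ : ∃ x, x = u U * δ U := ⟨_, rfl⟩
  obtain ⟨vd, hvd⟩ : ∃ x, x = u V * δ V := ⟨_, rfl⟩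
  have vals : u X = 0 ∧ u Y = c Y ∧ a X = 0 ∧ b X = 0 ∧ a Y = 0 ∧ b Y = 0 ∧ a U = 0 ∧ b U = 0 ∧
      a V = 0 ∧ b V = 0 ∧ a r = 0 ∧ b q = 0 ∧ a p = ε ∧ w q = 0 ∧ w r = ε :=
    ⟨hXu, huY, ha0 _ hXp hXq, hb0 _ hXp hXr, ha0 _ hYp hYq, hb0 _ hYp hYr, ha0 _ hUp hUq,
      hb0 _ hUp hUr, ha0 _ hVp hVq, hb0 _ hVp hVr, ha0 _ hr'.1 hqr.symm, hb0 _ hq'.1 hqr,
      hεd.symm, hwq.trans hwp, by rw [hwr, hwp, zero_add]⟩
  obtain ⟨v1, v2, v3, v4, v5, v6, v7, v8, v9, v10, v11, v12, v13, v14, v15⟩ := vals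
  have e1 : 1 + xd + yd = 0 := by
    have h := hsum8 (fun i => δ i * c i) (fun i hi => by rw [(hall i hi).2.2.1, mul_zero])
    rw [hdc] at h
    simp only [ho1, hoc, hcp, hcq0, hcr0, hcU, hcV, mul_zero, mul_one] at h
    rw [hxd, hyd]; linarith
  have e2 : yd + ud + vd = 0 := by
    have h := hsum8 (fun i => δ i * u i) (fun i hi => by rw [(hall i hi).2.2.2.1, mul_zero])
    rw [hdu] at h
    simp only [hou, hup, huq0, hur0, v1, v2, mul_zero] at h
    rw [hyd, hud, hvd]; linarith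
  have e3 : g - xd - yd - ud = 0 := by
    have h := hsum8 (fun i => δ i * w i) (fun i hi => by rw [(hall i hi).2.2.2.2, mul_zero])
    rw [hdw] at h
    simp only [how, hwp, v14, v15, hwX, hwY, hwU, hwV, hδr, mul_zero] at h
    rw [hg, hxd, hyd, hud]; linarith
  have cU : (16 : ℤ) ∣ ud + 5 := by
    have h := hcong U
    simp only [colT, colFour, colEight, v7, v8, hcU, hwU] at h
    obtain ⟨m, hm⟩ := h
    refine ⟨u U * m, ?_⟩
    rw [hud]; linear_combination (u U) * hm - (5 : ℤ) * hU1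
  have cX : (16 : ℤ) ∣ xd + 13 := by
    have h := hcong X
    simp only [colT, colFour, colEight, v3, v4, v1, hwX] at h
    obtain ⟨m, hm⟩ := h
    refine ⟨c X * m, ?_⟩
    rw [hxd]; linear_combination (c X) * hm - (13 : ℤ) * hcX
  have hdiv : ∀ (s d : ℤ), s * s = 1 → (s : ℚ) / (d : ℚ) = 1 / ((s * d : ℤ) : ℚ) := by
    intro s d hs
    rcases hsq hs with e | e <;> subst e <;> push_cast <;> ring
  have hpow : ∀ (s : ℤ) (m : ℚ), s * s = 1 → (m * (s : ℚ)) ^ 2 = m ^ 2 := by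
    intro s m hs
    rcases hsq hs with e | e <;> subst e <;> push_cast <;> ring
  have hterm : ∀ (s d : ℤ) (m n : ℚ), s * s = 1 →
      (m * (s : ℚ)) ^ 2 / (d : ℚ) * (n * (s : ℚ)) = m ^ 2 * n * (1 / ((s * d : ℤ) : ℚ)) := by
    intro s d m n hs
    rw [hpow s m hs, ← hdiv s d hs]; ring
  have hzero : ∀ (F : ℤ → ℤ → ℤ → ℤ → ℤ → ℚ), ∀ i, i ∉ T →
      (colT (a i) (b i) (c i) (u i) (w i) : ℚ) ^ 2 / (δ i : ℚ) *
        F (a i) (b i) (c i) (u i) (w i) = 0 := by
    intro F i hi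
    obtain ⟨z1, z2, z3, z4, z5⟩ := hall i hi
    simp [colT, z1, z2, z3, z4, z5]
  have E1 : 1 + (-9 : ℚ) * (1 / (ud : ℚ)) + 9 * (1 / (xd : ℚ)) - 1 / (vd : ℚ) = 0 := by
    have h := hsum8 (fun i => (colT (a i) (b i) (c i) (u i) (w i) : ℚ) ^ 2 / (δ i : ℚ) *
      (colEight (c i) (u i) : ℚ)) (hzero fun _ _ c u _ => (colEight c u : ℚ))
    rw [hEight] at h
    simp only [colT, colEight, ho1, hoa, hob, hoc, hou, how, hbp, hcp, hup, hwp, haq, v12,
      hcq0, huq0, v14, v11, hbr, hcr0, hur0, v15, v3, v4, v1, hwX, v5, v6, v2, hwY, v7, v8, hcU,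
      hwU, v9, v10, hcV, hwV, v13] at h
    push_cast at h
    have tX := hterm (c X) (δ X) 3 1 hcX
    have tU := hterm (u U) (δ U) 3 (-1) hU1
    have tV := hterm (u V) (δ V) 1 (-1) hV1
    rw [← hxd] at tX; rw [← hud] at tU; rw [← hvd] at tV
    ring_nf at h tX tU tV ⊢
    linarith
  have E2 : 1 + 1 / (vd : ℚ) + 4 * (1 / (g : ℚ)) + 16 * (1 / (yd : ℚ)) = 13824 / N := by
    have h := hsum8 (fun i => (colT (a i) (b i) (c i) (u i) (w i) : ℚ) ^ 2 / (δ i : ℚ) *
      (colSix (a i) (b i) (c i) (u i) (w i) : ℚ)) (hzero fun a b c u w => (colSix a b c u w : ℚ))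
    rw [hSix] at h
    simp only [colT, colSix, ho1, hoa, hob, hoc, hou, how, hbp, hcp, hup, hwp, haq, v12,
      hcq0, huq0, v14, v11, hbr, hcr0, hur0, v15, v3, v4, v1, hwX, v5, v6, v2, hwY, v7, v8, hcU,
      hwU, v9, v10, hcV, hwV, v13, hδq, hδr] at h
    push_cast at h
    have tg := hterm ε (δ p) 2 1 hε
    have tY := hterm (c Y) (δ Y) 4 1 hcY
    have tV := hterm (u V) (δ V) 1 1 hV1
    rw [← hg] at tg; rw [← hyd] at tY; rw [← hvd] at tV
    ring_nf at h tg tY tV ⊢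
    linarith
  have hud0 : (ud : ℚ) ≠ 0 := by
    have : ud ≠ 0 := by omega
    exact_mod_cast this
  have hxd0 : (xd : ℚ) ≠ 0 := by
    have : xd ≠ 0 := by omega
    exact_mod_cast this
  have hvd0 : (vd : ℚ) ≠ 0 := by
    have : vd ≠ 0 := by
      rw [hvd]
      exact mul_ne_zero (fun e => by rw [e, zero_mul] at hV1; norm_num at hV1) (hδ V).ne'
    exact_mod_cast this
  have hveq : vd = xd - ud + 1 := by linarith
  have hrel : (ud - 9) * (xd + 9) = -72 := by
    field_simp at E1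
    have hne : xd - ud ≠ 0 := by omega
    refine mul_left_cancel₀ hne ?_
    have hq : ((xd - ud) * ((ud - 9) * (xd + 9)) : ℤ) = ((xd - ud) * (-72) : ℤ) := by
      have : (((xd - ud) * ((ud - 9) * (xd + 9)) : ℤ) : ℚ) = (((xd - ud) * (-72) : ℤ) : ℚ) := by
        have hv : (vd : ℚ) = (xd : ℚ) - ud + 1 := by rw [hveq]; push_cast; ring
        rw [hv] at E1
        push_cast
        linear_combination E1
      exact_mod_cast this
    exact hq
  have hN0 : N ≠ 0 := by
    intro h0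
    rw [h0, Nat.cast_zero, div_zero] at E2
    rcases solve_small cU cX hrel with ⟨hU, hX⟩ | ⟨hU, hX⟩
    · rw [show yd = 44 by omega, show g = 10 by omega, show vd = -55 by omega] at E2
      norm_num at E2
    · rw [show yd = 12 by omega, show g = 26 by omega, show vd = -39 by omega] at E2
      norm_num at E2
  rcases solve_small cU cX hrel with ⟨hU, hX⟩ | ⟨hU, hX⟩
  · rw [show yd = 44 by omega, show g = 10 by omega, show vd = -55 by omega] at E2
    right
    push_cast at E2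
    field_simp at E2
    have : (N : ℚ) = 7920 := by linarith
    exact_mod_cast this
  · rw [show yd = 12 by omega, show g = 26 by omega, show vd = -39 by omega] at E2
    left
    push_cast at E2
    field_simp at E2
    have : (N : ℚ) = 5616 := by linarith
    exact_mod_cast this

end CfsgLib.GLTwoThree
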