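import Cfsg.Agent.GLTwoThree.ThreeLocal
import Mathlib

/-!
At order 5616 the core of a root element is extraspecial, with one root subgroup on each of the
other two axes.
-/

set_option autoImplicit false

namespace CfsgLib.GLTwoThree

open Cfsg CfsgLib.ExtremelyClosed

universe u

variable {G : Type u} [Group G] [Finite G] {t : G} {ι : M23 →* G} {O : Subgroup G}

theorem eq_of_le_three {H : Subgroup G} (hH : Nat.card H = 3) {c x : G} (hc : c ∈ H) (hc1 : c ≠ 1)
    (hx : x ∈ H) : x = 1 ∨ x = c ∨ x = c⁻¹ := by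
  have hco : orderOf c = 3 := by
    haveI : Fact (Nat.Prime 3) := ⟨by norm_num⟩
    refine orderOf_eq_prime ?_ hc1
    rw [← hH]
    exact congrArg Subtype.val (pow_card_eq_one' (G := H) (x := ⟨c, hc⟩))
  have he : Subgroup.zpowers c = H := Subgroup.eq_of_le_of_card_ge (Subgroup.zpowers_le.mpr hc)
    (by rw [Nat.card_zpowers, hco, hH])
  rw [← he] at hx
  obtain ⟨k, rfl⟩ := (mem_powers_iff_mem_zpowers).mpr hx
  change c ^ k = 1 ∨ c ^ k = c ∨ c ^ k = c⁻¹
  rw [← pow_mod_orderOf c k, hco]
  have hc3 : c ^ 3 = 1 := hco ▸ pow_orderOf_eq_one c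
  have h : k % 3 < 3 := Nat.mod_lt _ (by norm_num)
  interval_cases k % 3
  · exact .inl (pow_zero c)
  · exact .inr (.inl (pow_one c))
  · exact .inr (.inr (eq_inv_of_mul_eq_one_left (by rw [← pow_succ, hc3])))

namespace Core

theorem card_axes (h : Hyp t ι) (hN : Nat.card G = 5616) (hC : Core t ι O) :
    Nat.card (O ⊓ Subgroup.centralizer ({ι sM} : Set G) : Subgroup G) = 3 ∧
      Nat.card (O ⊓ Subgroup.centralizer ({t * ι sM} : Set G) : Subgroup G) = 3 := by
  obtain ⟨hcs, hcts⟩ := Core.conj_other h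
  let A₁ := O ⊓ Subgroup.centralizer ({t} : Set G)
  let A₂ := O ⊓ Subgroup.centralizer ({ι sM} : Set G)
  let A₃ := O ⊓ Subgroup.centralizer ({t * ι sM} : Set G)
  have hs : Function.Surjective (fun p : A₁ × A₂ × A₃ => (⟨(p.1 : G) * p.2.1 * p.2.2,
      mul_mem (mul_mem p.1.2.1 p.2.1.2.1) p.2.2.2.1⟩ : O)) := by
    intro x
    obtain ⟨x₁, h₁, c₁, x₂, h₂, c₂, x₃, h₃, c₃, e⟩ := Core.factor h hC x.2
    exact ⟨(⟨x₁, h₁, Subgroup.mem_centralizer_singleton_iff.mpr c₁⟩,
      ⟨x₂, h₂, Subgroup.mem_centralizer_singleton_iff.mpr c₂⟩,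
      ⟨x₃, h₃, Subgroup.mem_centralizer_singleton_iff.mpr c₃⟩), Subtype.ext e.symm⟩
  have hle := Nat.card_le_card_of_surjective _ hs
  rw [Nat.card_prod, Nat.card_prod, h.core_card hN hC] at hle
  have d1 : Nat.card A₁ ≤ 3 := Nat.le_of_dvd (by norm_num) (h.card_inter (IsConj.refl t) hC.odd)
  have d2 : Nat.card A₂ ≤ 3 := Nat.le_of_dvd (by norm_num) (h.card_inter hcs hC.odd)
  have d3 : Nat.card A₃ ≤ 3 := Nat.le_of_dvd (by norm_num) (h.card_inter hcts hC.odd)
  change Nat.card A₂ = 3 ∧ Nat.card A₃ = 3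
  constructor
  · by_contra hne
    have : Nat.card A₁ * (Nat.card A₂ * Nat.card A₃) ≤ 3 * (2 * 3) :=
      Nat.mul_le_mul d1 (Nat.mul_le_mul (by omega) d3)
    omega
  · by_contra hne
    have : Nat.card A₁ * (Nat.card A₂ * Nat.card A₃) ≤ 3 * (3 * 2) :=
      Nat.mul_le_mul d1 (Nat.mul_le_mul d2 (by omega))
    omega

/-- A generator of the root subgroup on an axis different from that of `t`. -/
theorem exists_axis (h : Hyp t ι) (hN : Nat.card G = 5616) (hC : Core t ι O) {z : G}
    (hz : z = ι sM ∨ z = t * ι sM) : ∃ c ∈ O, c ≠ 1 ∧ c ^ 3 = 1 ∧ Commute c z ∧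
      t * c * t⁻¹ = c⁻¹ ∧ ∀ x ∈ O, Commute x z → x = 1 ∨ x = c ∨ x = c⁻¹ := by
  have hcard : Nat.card (O ⊓ Subgroup.centralizer ({z} : Set G) : Subgroup G) = 3 := by
    rcases hz with rfl | rfl
    exacts [(card_axes h hN hC).1, (card_axes h hN hC).2]
  haveI : Nontrivial (O ⊓ Subgroup.centralizer ({z} : Set G) : Subgroup G) :=
    Finite.one_lt_card_iff_nontrivial.mp (by omega)
  obtain ⟨⟨c, hc⟩, hc1⟩ := exists_ne (1 : (O ⊓ Subgroup.centralizer ({z} : Set G) : Subgroup G))
  have hc1' : c ≠ 1 := fun e => hc1 (Subtype.ext e)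
  have hcz : Commute c z := Subgroup.mem_centralizer_singleton_iff.mp hc.2
  have hu : ∀ x ∈ O, Commute x z → x = 1 ∨ x = c ∨ x = c⁻¹ := fun x hx hxz =>
    eq_of_le_three hcard hc hc1' ⟨hx, Subgroup.mem_centralizer_singleton_iff.mpr hxz⟩
  obtain ⟨htt, -⟩ := orderOf_eq h
  have htz : t * z = z * t := by
    rcases hz with rfl | rfl
    · exact (h.comm_t sM).symm
    · rw [mul_assoc, h.comm_t sM]
  have hco : Odd (orderOf c) := ((hC.mem c).mp hc.1).2
  refine ⟨c, hc.1, hc1', ?_, hcz, ?_, hu⟩
  · rw [← hcard]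
    exact congrArg Subtype.val (pow_card_eq_one'
      (G := (O ⊓ Subgroup.centralizer ({z} : Set G) : Subgroup G)) (x := ⟨c, hc⟩))
  · have hcz' : Commute (t * c * t⁻¹) z := by
      have := hcz.map (MulAut.conj t).toMonoidHom
      simp only [MulEquiv.coe_toMonoidHom, MulAut.conj_apply] at this
      rwa [htz, mul_inv_cancel_right] at this
    rcases hu _ (Core.conj_mem h hC (.inl rfl) c hc.1) hcz' with e | e | e
    · exact absurd (conj_eq_one_iff.mp e) hc1'
    · exfalso
      have hct : Commute c t := (mul_inv_eq_iff_eq_mul.mp e).symm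
      refine hc1' (h.eq_one_of_commute_both hct ?_ hco)
      rcases hz with rfl | rfl
      · exact hcz
      · have h' := hct.mul_right hcz
        rwa [← mul_assoc, htt, one_mul] at h'
    · exact e

/-- The two root elements do not commute; their commutator is the central root element. -/
theorem commutator_axes (h : Hyp t ι) (hN : Nat.card G = 5616) (hC : Core t ι O) {c f : G}
    (hc : c ∈ O) (hc1 : c ≠ 1) (hcs : Commute c (ι sM)) (hf : f ∈ O) (hf1 : f ≠ 1)
    (hfs : Commute f (t * ι sM)) :
    c * f * c⁻¹ * f⁻¹ = ι uM ∨ c * f * c⁻¹ * f⁻¹ = (ι uM)⁻¹ := by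
  classical
  obtain ⟨htt, ht1⟩ := orderOf_eq h
  set a := ι uM with ha
  set s := ι sM with hs
  have hat : Commute a t := h.comm_t uM
  have hst : s * t = t * s := h.comm_t sM
  have hss : s * s = 1 := by rw [hs, ← map_mul, facts.2.2.2.2.1, map_one]
  have hs1 : s ≠ 1 := fun e => root_facts.2.2.2.2.2.2.2.2.1 (h.inj (by rw [← hs, e, map_one]))
  have hsa : s * a * s⁻¹ = a⁻¹ := by
    rw [hs, ha, ← map_inv, ← map_inv, ← map_mul, ← map_mul, root_facts.2.2.2.1]
  obtain ⟨c₀, -, -, hc3', -, htc₀, hcu⟩ := exists_axis h hN hC (z := s) (.inl rfl)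
  have hc3 : c ^ 3 = 1 := by
    rcases hcu c hc hcs with rfl | rfl | rfl <;> simp [hc3']
  have htc : t * c * t⁻¹ = c⁻¹ := by
    rcases hcu c hc hcs with rfl | rfl | rfl
    · simp
    · exact htc₀
    · rw [← conj_inv, htc₀]
  obtain ⟨f₀, -, -, hf3', -, htf₀, hfu⟩ := exists_axis h hN hC (z := t * s) (.inr rfl)
  have hf3 : f ^ 3 = 1 := by
    rcases hfu f hf hfs with rfl | rfl | rfl <;> simp [hf3']
  -- the two do not commute
  have hncomm : ¬ Commute c f := by
    intro hcf
    have hac : ∀ {x : G}, x ∈ O → Commute a x := fun hx => ((hC.mem _).mp hx).1.symm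
    have hOc : ∀ x ∈ O, Commute x c := by
      intro x hx
      obtain ⟨x₁, h₁, c₁, x₂, h₂, c₂, x₃, h₃, c₃, rfl⟩ := Core.factor h hC hx
      have k1 : Commute x₁ c := by
        rcases Core.at_t h hC h₁ c₁ with rfl | rfl | rfl
        · exact Commute.one_left _
        · exact hac hc
        · exact (hac hc).inv_left
      have k2 : Commute x₂ c := by
        rcases hcu c hc hcs with rfl | rfl | rfl <;>
          rcases hcu x₂ h₂ c₂ with rfl | rfl | rfl <;>
          first | exact Commute.refl _ | exact (Commute.refl _).inv_left |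
            exact (Commute.refl _).inv_right | exact Commute.one_left _ | exact Commute.one_right _
      have k3 : Commute x₃ c := by
        rcases hfu f hf hfs with rfl | rfl | rfl
        · exact absurd rfl hf1
        · rcases hfu x₃ h₃ c₃ with rfl | rfl | rfl
          exacts [Commute.one_left _, hcf.symm, hcf.symm.inv_left]
        · rcases hfu x₃ h₃ c₃ with rfl | rfl | rfl
          exacts [Commute.one_left _, by simpa using hcf.symm.inv_left, hcf.symm]
      exact (k1.mul_left k2).mul_left k3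
    -- a conjugation carrying `(t, a)` to `(s, c)`
    obtain ⟨g, hgt, hga⟩ := h.axis h.fused hcs hc3 hc1
    have hgO : ∀ x, x ∈ O → g * x * g⁻¹ ∈ O := by
      -- both are the core of `c`
      have himg : O.map (MulAut.conj g).toMonoidHom = O := by
        refine (Subgroup.eq_of_le_of_card_ge (fun x hx => ?_) ?_).symm
        · refine ⟨g⁻¹ * x * g, (hC.mem _).mpr ⟨?_, ?_⟩, by simp; group⟩
          · have h' := (hOc x hx).map (MulAut.conj g⁻¹).toMonoidHom
            simp only [MulEquiv.coe_toMonoidHom, MulAut.conj_apply, inv_inv] at h'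
            rw [← hga] at h'
            simpa [mul_assoc] using h'
          · have hx' := ((hC.mem x).mp hx).2
            rw [show g⁻¹ * x * g = (MulAut.conj g⁻¹).toMonoidHom x by simp,
              orderOf_injective (MulAut.conj g⁻¹).toMonoidHom (MulAut.conj g⁻¹).injective]
            exact hx'
        · exact (Nat.card_congr (O.equivMapOfInjective _ (MulAut.conj g).injective).toEquiv).symm.le
      intro x hx
      rw [← himg]
      exact ⟨x, hx, rfl⟩
    obtain ⟨ι', h', hu', hs'⟩ := h.frame_root (y := s) (z := t) (x := c) h.fused htt ht1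
      (fun e => root_facts.2.2.2.2.2.2.2.1 (h.inj (by rw [← hs, ← e, h.map_z]))) hst.symm hc3 hc1 hcs htc
    -- adjust so that `{t, s}` goes into the four-group
    set s₁ := g * s * g⁻¹ with hs₁
    have hs₁s : Commute s₁ s := by
      have := (show Commute s t from hst).map (MulAut.conj g).toMonoidHom
      simpa [hgt] using this
    obtain ⟨m, hm⟩ := h'.mem s₁ hs₁s.eq
    have hm2 : m * m = 1 := h'.inj (by
      rw [map_mul, hm, map_one, hs₁, show g * s * g⁻¹ * (g * s * g⁻¹) = g * (s * s) * g⁻¹ by group,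
        hss, mul_one, mul_inv_cancel])
    have hm1 : m ≠ 1 := fun e => hs1 (by
      rw [e, map_one] at hm; exact conj_eq_one_iff.mp hm.symm)
    have hmz : m ≠ zM := fun e => root_facts.2.2.2.2.2.2.2.1 (h.inj (by
      rw [e, h'.map_z] at hm
      rw [h.map_z, ← hs]
      exact mul_left_cancel (mul_right_cancel (hm.symm.trans hgt.symm))))
    have hmu : m * uM = uM * m ∨ m * uM = uM⁻¹ * m := by
      refine .inr (h'.inj ?_)
      rw [map_mul, map_mul, map_inv, hm, hu', hs₁, ← hga, conj_inv, conj_mul, conj_mul]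
      congr 2
      rw [← hsa, inv_mul_cancel_right]
    obtain ⟨k, hk⟩ := normalizer_u.1 m.val (det_ne m) (by rw [← Units.val_mul, hm2, Units.val_one])
      (val_ne_one hm1) (fun e => hmz (Units.ext e))
      (hmu.imp (fun e => by rw [← Units.val_mul, ← Units.val_mul, e])
        fun e => by rw [← Units.val_mul, ← Units.val_mul, e])
    set g' := c ^ (k : ℕ) * g with hg'
    have hg't : g' * t * g'⁻¹ = s := by
      rw [hg', show c ^ (k : ℕ) * g * t * (c ^ (k : ℕ) * g)⁻¹ =
        c ^ (k : ℕ) * (g * t * g⁻¹) * (c ^ (k : ℕ))⁻¹ by group, hgt, (hcs.pow_left _).eq,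
        mul_inv_cancel_right]
    have hg'O : ∀ x, x ∈ O → g' * x * g'⁻¹ ∈ O := by
      intro x hx
      rw [hg', show c ^ (k : ℕ) * g * x * (c ^ (k : ℕ) * g)⁻¹ =
        c ^ (k : ℕ) * (g * x * g⁻¹) * (c ^ (k : ℕ))⁻¹ by group]
      exact mul_mem (mul_mem (pow_mem hc _) (hgO x hx)) (inv_mem (pow_mem hc _))
    have hg's : g' * s * g'⁻¹ = t ∨ g' * s * g'⁻¹ = s * t := by
      have key : ∀ v : M23, uM ^ (k : ℕ) * m = v * uM ^ (k : ℕ) → g' * s * g'⁻¹ = ι' v := by
        intro v hv
        rw [hg', show c ^ (k : ℕ) * g * s * (c ^ (k : ℕ) * g)⁻¹ =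
          c ^ (k : ℕ) * s₁ * (c ^ (k : ℕ))⁻¹ by rw [hs₁]; group, ← hm, ← hu', ← map_pow,
          ← map_mul, hv, map_mul, mul_inv_cancel_right]
      rcases hs' with e' | e' <;> rcases hk with e | e
      · exact .inl ((key sM (Units.ext e)).trans e')
      · exact .inr (by rw [key (zM * sM) (Units.ext e), map_mul, h'.map_z, e'])
      · exact .inr ((key sM (Units.ext e)).trans e')
      · exact .inl (by rw [key (zM * sM) (Units.ext e), map_mul, h'.map_z, e', ← mul_assoc, hss,
          one_mul])
    have hts2 : g' * (t * s) * g'⁻¹ = s * (g' * s * g'⁻¹) := by rw [← conj_mul, hg't]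
    rcases hg's with e | e
    · -- a transposition
      rw [e] at hts2
      obtain ⟨htts, -⟩ : (t * s) * (t * s) = 1 ∧ True := ⟨by
        rw [mul_assoc, ← mul_assoc s, hst, mul_assoc t, hss, mul_one, htt], trivial⟩
      have hts1 : t * s ≠ 1 := fun e' => root_facts.2.2.2.2.2.2.2.1 (h.inj (by
        rw [← hs, h.map_z]
        exact mul_left_cancel (a := t) (e'.trans htt.symm)))
      obtain ⟨ι'', h'', hu'', hs''⟩ := h.frame_root (y := t * s) (z := t) (x := f₀)
        (Core.conj_other h).2 htt ht1 (fun e' => hs1 (mul_eq_left.mp e'.symm))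
        (by rw [Commute, SemiconjBy, mul_assoc t s, hst]) (by simpa using hf3') (by
          intro e'
          rcases hfu f hf hfs with rfl | rfl | rfl <;> simp [e'] at hf1) (by
          rcases hfu f hf hfs with rfl | rfl | rfl
          · exact absurd rfl hf1
          · exact hfs
          · simpa using hfs.inv_left) htf₀
      have hgts : g' * (t * s) = t * s * g' := by
        rw [hst] at hts2
        exact mul_inv_eq_iff_eq_mul.mp hts2
      obtain ⟨n, hn⟩ := h''.mem g' hgts
      have hf0O : f₀ ∈ O := by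
        rcases hfu f hf hfs with rfl | rfl | rfl
        exacts [absurd rfl hf1, hf, by simpa using inv_mem hf]
      have hcf0 : Commute (g' * f₀ * g'⁻¹) (t * s) := by
        have h0 : Commute f₀ (t * s) := by rw [← hu'']; exact h''.comm_t uM
        have := h0.map (MulAut.conj g').toMonoidHom
        simp only [MulEquiv.coe_toMonoidHom, MulAut.conj_apply] at this
        rwa [hgts, mul_inv_cancel_right] at this
      have hnu : n * uM = uM * n ∨ n * uM = uM⁻¹ * n := by
        rcases hfu _ (hg'O f₀ hf0O) hcf0 with e' | e' | e'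
        · exfalso
          have h0 := conj_eq_one_iff.mp e'
          rcases hfu f hf hfs with rfl | rfl | rfl <;> simp [h0] at hf1
        · exact .inl (h''.inj (by rw [map_mul, map_mul, hn, hu'', mul_inv_eq_iff_eq_mul.mp e']))
        · exact .inr (h''.inj (by
            rw [map_mul, map_mul, map_inv, hn, hu'', mul_inv_eq_iff_eq_mul.mp e']))
      refine normalizer_u.2 n.val (det_ne n) (hnu.imp (fun e' => by rw [← Units.val_mul, ← Units.val_mul, e'])
        fun e' => by rw [← Units.val_mul, ← Units.val_mul, e']) ?_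
      suffices n * sM = zM * sM * n by rw [← Units.val_mul, this, Units.val_mul]
      refine h''.inj ?_
      have hgs : g' * s = t * g' := mul_inv_eq_iff_eq_mul.mp e
      have hgt' : g' * t = s * g' := mul_inv_eq_iff_eq_mul.mp hg't
      simp only [map_mul, hn, h''.map_z]
      rcases hs'' with e' | e' <;> rw [e']
      · rw [hgt', show t * s * t = s by rw [mul_assoc, hst, ← mul_assoc, htt, one_mul]]
      · have e2 : t * s * t = s := by rw [mul_assoc, hst, ← mul_assoc, htt, one_mul]
        rw [e2, hgs, show t * s * s = t by rw [mul_assoc, hss, mul_one]]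
    · -- a three-cycle
      rw [e] at hts2
      rw [← mul_assoc s s, hss, one_mul] at hts2
      have hcyc : ∀ x : G, g' * g' * x * (g' * g')⁻¹ = g' * (g' * x * g'⁻¹) * g'⁻¹ := fun x => by group
      have h3t : g' * (g' * g') * t * (g' * (g' * g'))⁻¹ = t := by
        rw [show g' * (g' * g') * t * (g' * (g' * g'))⁻¹ = g' * (g' * (g' * t * g'⁻¹) * g'⁻¹) * g'⁻¹
          by group, hg't, e, hst, hts2]
      have h3s : g' * (g' * g') * s * (g' * (g' * g'))⁻¹ = s := by
        rw [show g' * (g' * g') * s * (g' * (g' * g'))⁻¹ = g' * (g' * (g' * s * g'⁻¹) * g'⁻¹) * g'⁻¹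
          by group, e, hst, hts2, hg't]
      obtain ⟨m3, hm3⟩ := h.mem _ (mul_inv_eq_iff_eq_mul.mp h3t)
      have hm3s : m3 * sM = sM * m3 := h.inj (by
        rw [map_mul, map_mul, hm3]; exact mul_inv_eq_iff_eq_mul.mp h3s)
      have h6 : (g' * g') ^ 3 = 1 := by
        have h2 := centralizer_s m3.val (det_ne m3) (by rw [← Units.val_mul, hm3s, Units.val_mul])
        have : g' * (g' * g') * (g' * (g' * g')) = 1 := by
          rw [← hm3, ← map_mul, show m3 * m3 = 1 from Units.ext h2, map_one]
        rw [← this]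
        simp [pow_succ, mul_assoc]
      -- a 3-element normalizing `O` lies in `O`
      have hgg : g' * g' ∈ O := by
        have hn : g' * g' ∈ Subgroup.normalizer (O : Set G) := by
          rw [Subgroup.mem_normalizer_iff]
          intro x
          constructor
          · intro hx; rw [hcyc]; exact hg'O _ (hg'O x hx)
          · intro hx
            have hset : O.map (MulAut.conj (g' * g')).toMonoidHom = O :=
              Subgroup.eq_of_le_of_card_ge (by
                rintro _ ⟨v, hv, rfl⟩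
                simp only [MulEquiv.coe_toMonoidHom, MonoidHom.coe_coe, MulAut.conj_apply]
                rw [hcyc]; exact hg'O _ (hg'O v hv))
                (Nat.card_congr (O.equivMapOfInjective _ (MulAut.conj (g' * g')).injective).toEquiv).le
            rw [← hset] at hx
            obtain ⟨v, hv, hve⟩ := hx
            have : v = x := (MulAut.conj (g' * g')).injective hve
            rwa [← this]
        haveI : Fact (Nat.Prime 3) := ⟨by norm_num⟩
        have hO : IsPGroup 3 O := IsPGroup.of_card (n := 3) (by rw [h.core_card hN hC]; norm_num)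
        have hz3 : IsPGroup 3 (Subgroup.zpowers (g' * g')) := by
          obtain ⟨i, -, hi⟩ := (Nat.dvd_prime_pow (by norm_num : Nat.Prime 3)).mp
            (orderOf_dvd_of_pow_eq_one h6 |>.trans (dvd_of_eq (pow_one 3).symm))
          exact IsPGroup.of_card (n := i) (by rw [Nat.card_zpowers, hi])
        have hsup := hO.to_sup_of_normal_left' hz3 (Subgroup.zpowers_le.mpr hn)
        obtain ⟨i, hi⟩ := IsPGroup.iff_card.mp hsup
        have hd := Subgroup.card_subgroup_dvd_card (O ⊔ Subgroup.zpowers (g' * g'))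
        rw [hi, hN] at hd
        have hi3 : i ≤ 3 := by
          by_contra hi'
          exact absurd ((Nat.pow_dvd_pow 3 (show 4 ≤ i by omega)).trans hd) (by norm_num)
        have heq : O = O ⊔ Subgroup.zpowers (g' * g') := Subgroup.eq_of_le_of_card_ge le_sup_left
          (by rw [hi, h.core_card hN hC]; exact Nat.pow_le_pow_right (by norm_num) hi3)
        rw [heq]
        exact Subgroup.mem_sup_right (Subgroup.mem_zpowers _)
      have hmv : g' * g' * t * (g' * g')⁻¹ = s * t := by rw [hcyc, hg't, e]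
      have hsO : s ∈ O := by
        have h1 : g' * g' * (t * (g' * g')⁻¹ * t⁻¹) = s := by
          calc g' * g' * (t * (g' * g')⁻¹ * t⁻¹) = g' * g' * t * (g' * g')⁻¹ * t⁻¹ := by group
            _ = s := by rw [hmv, mul_inv_cancel_right]
        rw [← h1]
        exact mul_mem hgg (Core.conj_mem h hC (.inl rfl) _ (inv_mem hgg))
      exact hs1 (eq_one_of_eq_inv ((hC.mem s).mp hsO).2 (inv_eq_of_mul_eq_one_right hss))
  -- the commutator
  haveI : Fact (Nat.Prime 3) := ⟨by norm_num⟩
  have hA : ∀ x ∈ O, ∀ y ∈ O, x * y * x⁻¹ * y⁻¹ ∈ Subgroup.zpowers a := by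
    intro x hx y hy
    let A : Subgroup O := (Subgroup.zpowers a).subgroupOf O
    haveI : A.Normal := ⟨fun v hv w => by
      obtain ⟨i, hi⟩ := Subgroup.mem_zpowers_iff.mp (Subgroup.mem_subgroupOf.mp hv)
      refine Subgroup.mem_subgroupOf.mpr (Subgroup.mem_zpowers_iff.mpr ⟨i, ?_⟩)
      push_cast
      rw [← hi, ((((hC.mem _).mp w.2).1).zpow_right i).eq, mul_inv_cancel_right]⟩
    have hq : Nat.card (O ⧸ A) = 3 ^ 2 := by
      have h1 := A.card_eq_card_quotient_mul_card_subgroup
      rw [h.core_card hN hC, Nat.card_congr (Subgroup.subgroupOfEquivOfLe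
        (Subgroup.zpowers_le.mpr hC.u_mem)).toEquiv, Nat.card_zpowers,
        orderOf_eq_prime (p := 3) (x := a) (by rw [ha, ← map_pow, root_facts.1, map_one])
          (fun e => root_facts.2.1 (h.inj (e.trans (map_one ι).symm)))] at h1
      omega
    have hcommq := IsPGroup.commutative_of_card_eq_prime_sq hq
    have hmem : ((⟨x, hx⟩ : O) * ⟨y, hy⟩ * (⟨x, hx⟩ : O)⁻¹ * (⟨y, hy⟩ : O)⁻¹) ∈ A := by
      rw [← QuotientGroup.eq_one_iff]
      simp only [QuotientGroup.mk_mul, QuotientGroup.mk_inv]
      rw [hcommq (QuotientGroup.mk ⟨x, hx⟩) (QuotientGroup.mk ⟨y, hy⟩)]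
      group
    exact Subgroup.mem_subgroupOf.mp hmem
  have hmem := hA c hc f hf
  have hmemO : c * f * c⁻¹ * f⁻¹ ∈ O := mul_mem (mul_mem (mul_mem hc hf) (inv_mem hc)) (inv_mem hf)
  have hctt : Commute (c * f * c⁻¹ * f⁻¹) t := by
    obtain ⟨i, hi⟩ := Subgroup.mem_zpowers_iff.mp hmem
    exact hi ▸ hat.zpow_left i
  rcases Core.at_t h hC hmemO hctt with e | e | e
  · exact absurd (mul_inv_eq_iff_eq_mul.mp (by rw [← one_mul f]; simpa [mul_inv_eq_iff_eq_mul] using e)) hncomm
  · exact .inl e
  · exact .inr e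

end Core

end CfsgLib.GLTwoThree
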