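import Cfsg.Agent.GLTwoThree.Model
import Mathlib

/-!
Decided facts on the root elements of GL(2,3).
-/

set_option autoImplicit false

namespace CfsgLib.GLTwoThree

/-- The upper root element. -/
def uM : M23 := ⟨!![1, 1; 0, 1], !![1, -1; 0, 1], by decide, by decide⟩
/-- The lower root element. -/
def lM : M23 := ⟨!![1, 0; 1, 1], !![1, 0; -1, 1], by decide, by decide⟩
/-- The exchange of the two lines fixed by `sM`. -/
def swM : M23 := ⟨!![0, 1; 1, 0], !![0, 1; 1, 0], by decide, by decide⟩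

theorem root_facts : uM ^ 3 = 1 ∧ uM ≠ 1 ∧ lM ^ 3 = 1 ∧ sM * uM * sM⁻¹ = uM⁻¹ ∧
    sM * lM * sM⁻¹ = lM⁻¹ ∧ swM * uM * swM⁻¹ = lM ∧ swM * sM * swM⁻¹ = zM * sM ∧
    sM ≠ zM ∧ sM ≠ 1 ∧ zM * sM * (zM * sM) = 1 ∧ zM * sM ≠ 1 ∧ zM * sM ≠ sM ∧ zM * sM ≠ zM ∧
    zM * sM = sM * zM := by
  decide +kernel

theorem weyl_facts : (uM * lM⁻¹ * uM) ^ 2 = zM ∧ (uM * lM * uM) ^ 3 = zM ∧
    (uM * lM⁻¹ * uM) * lM * (uM * lM⁻¹ * uM)⁻¹ = uM⁻¹ ∧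
    (uM * lM⁻¹ * uM) * uM * (uM * lM⁻¹ * uM)⁻¹ = lM⁻¹ ∧
    (uM * lM⁻¹ * uM) * sM * (uM * lM⁻¹ * uM)⁻¹ = zM * sM := by
  decide +kernel

theorem cube_conj : ∀ M : Matrix (Fin 2) (Fin 2) (ZMod 3), M * (M * M) = 1 → M = 1 ∨
    ∃ X : Matrix (Fin 2) (Fin 2) (ZMod 3), X.det ≠ 0 ∧ X * uM.val = M * X := by
  decide +kernel

theorem roots_cases : ∀ M : Matrix (Fin 2) (Fin 2) (ZMod 3), M * (M * M) = 1 →
    sM.val * M * sM.val * M = 1 →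
      M = 1 ∨ M = uM.val ∨ M = (uM⁻¹).val ∨ M = lM.val ∨ M = (lM⁻¹).val := by
  decide +kernel

theorem centralizer_u : ∀ M : Matrix (Fin 2) (Fin 2) (ZMod 3), M * uM.val = uM.val * M →
    M * (M * M) = 1 → M = 1 ∨ M = uM.val ∨ M = (uM⁻¹).val := by
  decide +kernel

theorem centralizer_u_two : ∀ M : Matrix (Fin 2) (Fin 2) (ZMod 3), M * uM.val = uM.val * M →
    M ^ 16 = 1 → M = 1 ∨ M = zM.val := by
  decide +kernel

theorem centralizer_s : ∀ M : Matrix (Fin 2) (Fin 2) (ZMod 3), M.det ≠ 0 →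
    M * sM.val = sM.val * M → M * M = 1 := by
  decide +kernel

theorem normalizer_u : (∀ M : Matrix (Fin 2) (Fin 2) (ZMod 3), M.det ≠ 0 → M * M = 1 → M ≠ 1 →
      M ≠ zM.val → (M * uM.val = uM.val * M ∨ M * uM.val = (uM⁻¹).val * M) →
      ∃ k : Fin 3, (uM ^ (k : ℕ)).val * M = sM.val * (uM ^ (k : ℕ)).val ∨
        (uM ^ (k : ℕ)).val * M = (zM * sM).val * (uM ^ (k : ℕ)).val) ∧
    (∀ M : Matrix (Fin 2) (Fin 2) (ZMod 3), M.det ≠ 0 →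
      (M * uM.val = uM.val * M ∨ M * uM.val = (uM⁻¹).val * M) →
      M * sM.val ≠ (zM * sM).val * M) := by
  constructor <;> decide +kernel

theorem roots_generate_four : ∀ X : Matrix (Fin 2) (Fin 2) (ZMod 3),
    X = lM.val ∨ X = (lM⁻¹).val → uM.val * X * (uM.val * X) * (uM.val * X) ≠ 1 ∨
      uM.val * (X * X) * (uM.val * (X * X)) * (uM.val * (X * X)) ≠ 1 := by
  decide +kernel

end CfsgLib.GLTwoThree
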