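import Cfsg.Agent.GLTwoThree.Order
import Cfsg.Agent.GLTwoThree.RootFacts
import Cfsg.Agent.GLTwoThree.Setup
import Cfsg.Agent.SmallPerm.DegreeSix
import Mathlib

/-!
Changing the frame of an involution centralizer GL(2,3), and centralizers of its elements of
order three.
-/

set_option autoImplicit false

namespace CfsgLib.GLTwoThree

open Cfsg

universe u

variable {G : Type u} [Group G] [Finite G] {t : G} {ι : M23 →* G}

theorem val_ne_one {m : M23} (h : m ≠ 1) : m.val ≠ 1 := fun e => h (Units.ext e)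

theorem det_ne (m : M23) : m.val.det ≠ 0 :=
  ((Matrix.isUnit_iff_isUnit_det _).mp m.isUnit).ne_zero

theorem pow_three_of_odd {m : M23} (hm : Odd (orderOf m)) : m ^ 3 = 1 := by
  rw [← orderOf_dvd_iff_pow_eq_one]
  have h48 : orderOf m ∣ 2 ^ 4 * 3 := by
    have := orderOf_dvd_card (x := m)
    rw [card_M23] at this
    simpa using this
  exact (Nat.Coprime.pow_right 4 (Nat.coprime_two_right.mpr hm)).dvd_of_dvd_mul_left h48

theorem Hyp.transport (h : Hyp t ι) (g : G) :
    Hyp (g * t * g⁻¹) ((MulAut.conj g).toMonoidHom.comp ι) := by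
  refine ⟨(MulAut.conj g).injective.comp h.inj, by simp [h.map_z], fun x hx => ?_, ?_⟩
  · obtain ⟨m, hm⟩ := h.mem (g⁻¹ * x * g) (by
      calc g⁻¹ * x * g * t = g⁻¹ * (x * (g * t * g⁻¹)) * g := by group
        _ = g⁻¹ * (g * t * g⁻¹ * x) * g := by rw [hx]
        _ = t * (g⁻¹ * x * g) := by group)
    exact ⟨m, by simp [hm]; group⟩
  · obtain ⟨c, hc⟩ := isConj_iff.mp h.fused
    refine isConj_iff.mpr ⟨g * c * g⁻¹, ?_⟩
    simp only [MonoidHom.comp_apply, MulEquiv.coe_toMonoidHom, MulAut.conj_apply, ← hc]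
    group

theorem Hyp.of_isConj (h : Hyp t ι) {y : G} (hy : IsConj t y) : ∃ ι', Hyp y ι' := by
  obtain ⟨g, rfl⟩ := isConj_iff.mp hy
  exact ⟨_, h.transport g⟩

theorem Hyp.reframe (h : Hyp t ι) (X : M23) : Hyp t (ι.comp (MulAut.conj X).toMonoidHom) := by
  have hz : X * zM = zM * X := Units.ext (zM_central X.val)
  refine ⟨h.inj.comp (MulAut.conj X).injective, by simp [hz, h.map_z, ← map_inv, ← map_mul],
    fun x hx => ?_, h.fused.trans (ι.map_isConj (isConj_iff.mpr ⟨X, rfl⟩))⟩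
  obtain ⟨m, hm⟩ := h.mem x hx
  exact ⟨X⁻¹ * m * X, by simp [← hm, ← map_inv, ← map_mul, mul_assoc]⟩

theorem Hyp.odd_cube (h : Hyp t ι) {x : G} (hc : Commute x t) (hx : Odd (orderOf x)) :
    x ^ 3 = 1 := by
  obtain ⟨m, rfl⟩ := h.mem x hc.eq
  rw [orderOf_injective ι h.inj] at hx
  rw [← map_pow, pow_three_of_odd hx, map_one]

theorem Hyp.frame_invol (h : Hyp t ι) {s : G} (h2 : s * s = 1) (h1 : s ≠ 1) (ht : s ≠ t)
    (hc : Commute s t) : ∃ ι', Hyp t ι' ∧ ι' sM = s := by
  obtain ⟨m, rfl⟩ := h.mem s hc.eq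
  have hm2 : m * m = 1 := h.inj (by rw [map_mul, h2, map_one])
  rcases invol_cases m.val (by rw [← Units.val_mul, hm2, Units.val_one]) with e | e | ⟨X, hX, e⟩
  · exact absurd (by rw [show m = 1 from Units.ext e, map_one]) h1
  · exact absurd (by rw [show m = zM from Units.ext e, h.map_z]) ht
  · refine ⟨_, h.reframe (Matrix.GeneralLinearGroup.mkOfDetNeZero X hX), ?_⟩
    simp only [MonoidHom.comp_apply, MulEquiv.coe_toMonoidHom, MulAut.conj_apply]
    congr 1
    rw [mul_inv_eq_iff_eq_mul]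
    exact Units.ext e

theorem Hyp.conj_cube (h : Hyp t ι) {x : G} (hc : Commute x t) (h3 : x ^ 3 = 1) (h1 : x ≠ 1) :
    ∃ g, Commute g t ∧ g * ι uM * g⁻¹ = x := by
  obtain ⟨m, rfl⟩ := h.mem x hc.eq
  have hm : m * (m * m) = 1 := h.inj (by
    rw [map_mul, map_mul, map_one, ← h3, pow_succ, pow_two, mul_assoc])
  rcases cube_conj m.val (by rw [← Units.val_mul, ← Units.val_mul, hm, Units.val_one]) with
    e | ⟨X, hX, e⟩
  · exact absurd (by rw [show m = 1 from Units.ext e, map_one]) h1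
  · refine ⟨ι (Matrix.GeneralLinearGroup.mkOfDetNeZero X hX), h.comm_t _, ?_⟩
    rw [mul_inv_eq_iff_eq_mul, ← map_mul, ← map_mul]
    exact congrArg ι (Units.ext e)

/-- A root element with its centralizing and inverting involution as a frame. -/
theorem Hyp.frame_root (h : Hyp t ι) {y z x : G} (hy : IsConj t y) (hz2 : z * z = 1) (hz1 : z ≠ 1)
    (hzy : z ≠ y) (hc : Commute z y) (hx3 : x ^ 3 = 1) (hx1 : x ≠ 1) (hxy : Commute x y)
    (hinv : z * x * z⁻¹ = x⁻¹) :
    ∃ ι', Hyp y ι' ∧ ι' uM = x ∧ (ι' sM = z ∨ ι' sM = y * z) := by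
  obtain ⟨ι₀, h₀⟩ := h.of_isConj hy
  obtain ⟨ι₁, h₁, hs⟩ := h₀.frame_invol hz2 hz1 hzy hc
  obtain ⟨m, rfl⟩ := h₁.mem x hxy.eq
  subst hs
  have hm : m * (m * m) = 1 := h₁.inj (by
    rw [map_mul, map_mul, map_one, ← hx3, pow_succ, pow_two, mul_assoc])
  have hi : sM * m * sM * m = 1 := h₁.inj (by
    rw [map_mul, map_mul, map_mul, map_one]
    calc ι₁ sM * ι₁ m * ι₁ sM * ι₁ m = ι₁ sM * ι₁ m * (ι₁ sM)⁻¹ * ι₁ m := by
          rw [inv_eq_of_mul_eq_one_right hz2]
      _ = 1 := by rw [hinv, inv_mul_cancel])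
  obtain ⟨-, -, -, hsu, hsl, hwu, hws, -, -, -, -, -, -, -⟩ := root_facts
  have fin : ∀ X : M23, X * uM * X⁻¹ = m → (X * sM * X⁻¹ = sM ∨ X * sM * X⁻¹ = zM * sM) →
      ∃ ι', Hyp y ι' ∧ ι' uM = ι₁ m ∧ (ι' sM = ι₁ sM ∨ ι' sM = y * ι₁ sM) := by
    intro X h1' h2'
    refine ⟨_, h₁.reframe X, ?_, ?_⟩
    · simp only [MonoidHom.comp_apply, MulEquiv.coe_toMonoidHom, MulAut.conj_apply, h1']
    · simp only [MonoidHom.comp_apply, MulEquiv.coe_toMonoidHom, MulAut.conj_apply]
      rcases h2' with e | e <;> rw [e]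
      · exact .inl rfl
      · rw [map_mul, h₁.map_z]; exact .inr rfl
  rcases roots_cases m.val (by rw [← Units.val_mul, ← Units.val_mul, hm, Units.val_one])
    (by rw [← Units.val_mul, ← Units.val_mul, ← Units.val_mul, hi, Units.val_one]) with
    e | e | e | e | e
  · exact absurd (by rw [show m = 1 from Units.ext e, map_one]) hx1
  · exact fin 1 (by rw [show m = uM from Units.ext e]; group) (.inl (by group))
  · exact fin sM (by rw [show m = uM⁻¹ from Units.ext e, hsu]) (.inl (by group))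
  · exact fin swM (by rw [show m = lM from Units.ext e, hwu]) (.inr hws)
  · refine fin (sM * swM) ?_ (.inr ?_)
    · rw [show m = lM⁻¹ from Units.ext e, ← hsl, ← hwu]; group
    · calc sM * swM * sM * (sM * swM)⁻¹ = sM * (swM * sM * swM⁻¹) * sM⁻¹ := by group
        _ = sM * zM := by rw [hws]; group
        _ = zM * sM := root_facts.2.2.2.2.2.2.2.2.2.2.2.2.2.symm

/-- The centralizer of a root element is `O⟨t⟩` with `O` of odd order. -/
theorem Hyp.exists_core (h : Hyp t ι) : ∃ O : Subgroup G,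
    (∀ x, x ∈ O ↔ Commute x (ι uM) ∧ Odd (orderOf x)) ∧ Odd (Nat.card O) ∧
      Nat.card (Subgroup.centralizer ({ι uM} : Set G)) = 2 * Nat.card O := by
  classical
  haveI : Fact (Nat.Prime 2) := ⟨Nat.prime_two⟩
  set C := Subgroup.centralizer ({ι uM} : Set G) with hC
  have hmemC : ∀ {x : G}, x ∈ C ↔ Commute x (ι uM) := fun {x} =>
    Subgroup.mem_centralizer_singleton_iff
  obtain ⟨htt, ht1⟩ := orderOf_eq h
  set τ : C := ⟨t, hmemC.mpr (h.comm_t uM).symm⟩ with hτ
  have hτ2 : τ ^ 2 = 1 := Subtype.ext (by simpa [pow_two] using htt)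
  have hτ1 : τ ≠ 1 := fun e => ht1 (congrArg Subtype.val e)
  have hτo : orderOf τ = 2 := orderOf_eq_prime hτ2 hτ1
  have hp : IsPGroup 2 (Subgroup.zpowers τ) := IsPGroup.of_card (n := 1) (by
    rw [Nat.card_zpowers, hτo, pow_one])
  obtain ⟨P, hP⟩ := hp.exists_le_sylow
  have hτP : τ ∈ (P : Subgroup C) := hP (Subgroup.mem_zpowers τ)
  have hsmall : ∀ w : (P : Subgroup C), Commute ((w : C) : G) t → (w : C) = 1 ∨ (w : C) = τ := by
    intro w hw
    obtain ⟨m, hm⟩ := h.mem _ hw.eq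
    obtain ⟨k, hk⟩ := P.2 w
    have hom : orderOf m ∣ 2 ^ 4 := by
      have h48 : orderOf m ∣ 2 ^ 4 * 3 := by
        have := orderOf_dvd_card (x := m)
        rw [card_M23] at this
        simpa using this
      have h2 : orderOf m ∣ 2 ^ k := by
        rw [orderOf_dvd_iff_pow_eq_one]
        refine h.inj ?_
        rw [map_pow, hm, map_one]
        exact congrArg (fun v : (P : Subgroup C) => ((v : C) : G)) hk
      exact ((Nat.Coprime.pow_left k (by norm_num : Nat.Coprime 2 3)).coprime_dvd_left h2).dvd_of_dvd_mul_right h48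
    have hmu : m * uM = uM * m := h.inj (by
      rw [map_mul, map_mul, hm]; exact (hmemC.mp (w : C).2).eq)
    rcases centralizer_u_two m.val (by rw [← Units.val_mul, hmu, Units.val_mul])
      (by rw [← Units.val_pow_eq_pow_val, orderOf_dvd_iff_pow_eq_one.mp (show orderOf m ∣ 16 from hom), Units.val_one]) with
      e | e
    · exact .inl (Subtype.ext (by rw [← hm, show m = 1 from Units.ext e, map_one]; rfl))
    · exact .inr (Subtype.ext (by rw [← hm, show m = zM from Units.ext e, h.map_z]))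
  haveI : Nontrivial (P : Subgroup C) := ⟨⟨⟨τ, hτP⟩, 1, fun e => hτ1 (congrArg Subtype.val e)⟩⟩
  haveI : Nontrivial (Subgroup.center (P : Subgroup C)) := P.2.center_nontrivial
  obtain ⟨⟨z, hz⟩, hz1⟩ := exists_ne (1 : Subgroup.center (P : Subgroup C))
  have hzc : ∀ w : (P : Subgroup C), w * z = z * w := Subgroup.mem_center_iff.mp hz
  have hzt : (z : C) = τ := by
    refine (hsmall z ?_).resolve_left fun e => hz1 (Subtype.ext (Subtype.ext e))
    exact congrArg (fun v : (P : Subgroup C) => ((v : C) : G)) (hzc ⟨τ, hτP⟩).symm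
  have hPcard : Nat.card (P : Subgroup C) = 2 := by
    refine Eq.trans ?_ ((Nat.card_zpowers τ).trans hτo)
    refine congrArg (fun S : Subgroup C => Nat.card S) (le_antisymm (fun w hw => ?_) hP)
    have hw' := congrArg (fun v : (P : Subgroup C) => ((v : C) : G)) (hzc ⟨w, hw⟩)
    simp only [Subgroup.coe_mul, hzt] at hw'
    rcases hsmall ⟨w, hw⟩ hw' with e | e
    · rw [show w = 1 from e]; exact one_mem _
    · rw [show w = τ from e]; exact Subgroup.mem_zpowers τ
  have hcard : Nat.card C = 2 * (P : Subgroup C).index := by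
    have e := (P : Subgroup C).card_mul_index
    rw [hPcard] at e
    exact e.symm
  have hodd : Odd (P : Subgroup C).index := by
    rw [← Nat.not_even_iff_odd, even_iff_two_dvd]
    exact P.not_dvd_index
  obtain ⟨K, hKn, hK⟩ := CfsgLib.SmallPerm.exists_normal_index_two hcard hodd
  have hKc : Nat.card K = (P : Subgroup C).index := by
    have := K.card_mul_index
    rw [hK, hcard] at this
    omega
  have hKO : Nat.card (K.map C.subtype) = (P : Subgroup C).index := by
    rw [← hKc]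
    exact (Nat.card_congr (K.equivMapOfInjective C.subtype C.subtype_injective).toEquiv).symm
  refine ⟨K.map C.subtype, fun x => ⟨?_, fun ⟨hc, ho⟩ => ?_⟩, hKO ▸ hodd, by rw [hcard, hKO]⟩
  · intro hx
    exact ⟨hmemC.mp (Subgroup.map_subtype_le K hx),
      (hKO ▸ hodd).of_dvd_nat (Subgroup.orderOf_dvd_natCard _ hx)⟩
  · refine ⟨⟨x, hmemC.mpr hc⟩, ?_, rfl⟩
    obtain ⟨j, hj⟩ := ho
    have e : (⟨x, hmemC.mpr hc⟩ : C) = ((⟨x, hmemC.mpr hc⟩ : C) ^ 2) ^ (j + 1) := by
      refine Subtype.ext ?_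
      push_cast
      rw [← pow_mul, show 2 * (j + 1) = (2 * j + 1) + 1 by ring, pow_succ, ← hj,
        pow_orderOf_eq_one, one_mul]
    rw [e]
    exact pow_mem (Subgroup.sq_mem_of_index_two hK _) _

end CfsgLib.GLTwoThree
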