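import Cfsg.Agent.GLTwoThree.Extraspecial
import Mathlib

/-!
Six root elements satisfying the relations of SL(3,3).
-/

set_option autoImplicit false

namespace CfsgLib.GLTwoThree

open Cfsg CfsgLib.ExtremelyClosed

universe u

variable {G : Type u} [Group G]

/-- The commutator used for the relations. -/
def cm (x y : G) : G := x * y * x⁻¹ * y⁻¹

theorem cm_swap (x y : G) : cm y x = (cm x y)⁻¹ := by simp only [cm]; group

theorem cm_inv_left {x y z : G} (h : cm x y = z) (hz : Commute z x) : cm x⁻¹ y = z⁻¹ := by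
  have e : z⁻¹ * (x * y * x⁻¹) = y := by rw [← h, cm]; group
  calc cm x⁻¹ y = x⁻¹ * y * x * y⁻¹ := by rw [cm, inv_inv]
    _ = x⁻¹ * (z⁻¹ * (x * y * x⁻¹)) * x * y⁻¹ := by rw [e]
    _ = z⁻¹ * x⁻¹ * (x * y * x⁻¹) * x * y⁻¹ := by rw [← mul_assoc x⁻¹, ← hz.inv_inv.eq]
    _ = z⁻¹ := by group

theorem cm_inv_right {x y z : G} (h : cm x y = z) (hz : Commute z y) : cm x y⁻¹ = z⁻¹ := by
  have h' : cm y x = z⁻¹ := by rw [cm_swap, h]
  have := cm_inv_left h' hz.inv_left
  rw [cm_swap, this, inv_inv]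

theorem cm_map {H : Type*} [Group H] (φ : G →* H) (x y : G) : cm (φ x) (φ y) = φ (cm x y) := by
  simp only [cm, map_mul, map_inv]

theorem cm_conj (w x y : G) : cm (w * x * w⁻¹) (w * y * w⁻¹) = w * cm x y * w⁻¹ := by
  simp only [cm]; group

variable [Finite G]

/-- A root element: fixed by `y`, inverted by `z`. -/
structure IsRoot (y z x : G) : Prop where
  cube : x ^ 3 = 1
  ne_one : x ≠ 1
  fixed : Commute x y
  inverted : z * x * z⁻¹ = x⁻¹

/-- A pair of commuting distinct involutions in the class of `t`, with their product. -/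
structure Pair (t y z : G) : Prop where
  conj_left : IsConj t y
  conj_prod : IsConj t (y * z)
  sq : z * z = 1
  ne_one : z ≠ 1
  ne : z ≠ y
  comm : Commute z y

variable {t : G} {ι : M23 →* G}

theorem Pair.prod_inverts {y z x : G} (hr : IsRoot y z x) : y * z * x * (y * z)⁻¹ = x⁻¹ := by
  rw [show y * z * x * (y * z)⁻¹ = y * (z * x * z⁻¹) * y⁻¹ by group, hr.inverted, ← conj_inv,
    ← hr.fixed.eq, mul_inv_cancel_right]

theorem IsRoot.odd {y z x : G} (hr : IsRoot y z x) : Odd (orderOf x) :=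
  (show Odd 3 by decide).of_dvd_nat (orderOf_dvd_of_pow_eq_one hr.cube)

theorem IsRoot.inv {y z x : G} (hr : IsRoot y z x) : IsRoot y z x⁻¹ :=
  ⟨by rw [inv_pow, hr.cube, inv_one], inv_ne_one.mpr hr.ne_one, hr.fixed.inv_left,
    by rw [← conj_inv, hr.inverted]⟩

variable (h : Hyp t ι) (hN : Nat.card G = 5616)
include h hN

/-- The two neighbours of a root. -/
theorem exists_neighbours {y z x : G} (hp : Pair t y z) (hr : IsRoot y z x) :
    ∃ c f : G, IsRoot z y c ∧ IsRoot (y * z) y f ∧ Commute c x ∧ Commute f x ∧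
      (∀ w, Odd (orderOf w) → Commute w x → Commute w z → w = 1 ∨ w = c ∨ w = c⁻¹) ∧
      (∀ w, Odd (orderOf w) → Commute w x → Commute w (y * z) → w = 1 ∨ w = f ∨ w = f⁻¹) ∧
      (cm c f = x ∨ cm c f = x⁻¹) := by
  obtain ⟨ι', h', hu, hs⟩ := h.frame_root hp.conj_left hp.sq hp.ne_one hp.ne hp.comm hr.cube hr.ne_one
    hr.fixed hr.inverted
  obtain ⟨O, hm, ho, hc⟩ := h'.exists_core
  have hC : Core y ι' O := ⟨hm, ho, hc⟩
  obtain ⟨c, hcO, hc1, hc3, hcz, hcy, hcu⟩ := Core.exists_axis h' hN hC (z := ι' sM) (.inl rfl)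
  obtain ⟨f, hfO, hf1, hf3, hfz, hfy, hfu⟩ := Core.exists_axis h' hN hC (z := y * ι' sM) (.inr rfl)
  have hrel := Core.commutator_axes h' hN hC hcO hc1 hcz hfO hf1 hfz
  rw [hu] at hrel
  have hcx : Commute c x := hu ▸ ((hm c).mp hcO).1
  have hfx : Commute f x := hu ▸ ((hm f).mp hfO).1
  have hin : ∀ w, Odd (orderOf w) → Commute w x → w ∈ O := fun w h1 h2 =>
    (hm w).mpr ⟨hu.symm ▸ h2, h1⟩
  rcases hs with e | e
  · rw [e] at hcz hfz hcu hfu
    exact ⟨c, f, ⟨hc3, hc1, hcz, hcy⟩, ⟨hf3, hf1, hfz, hfy⟩, hcx, hfx,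
      fun w h1 h2 h3 => hcu w (hin w h1 h2) h3, fun w h1 h2 h3 => hfu w (hin w h1 h2) h3, hrel⟩
  · rw [e] at hcz hfz hcu hfu
    have hyy : y * (y * z) = z := by
      obtain ⟨htt, -⟩ := orderOf_eq h'
      rw [← mul_assoc, htt, one_mul]
    rw [hyy] at hfz hfu
    refine ⟨f, c, ⟨hf3, hf1, hfz, hfy⟩, ⟨hc3, hc1, hcz, hcy⟩, hfx, hcx,
      fun w h1 h2 h3 => hfu w (hin w h1 h2) h3, fun w h1 h2 h3 => hcu w (hin w h1 h2) h3, ?_⟩
    rw [cm_swap]
    rcases hrel with e' | e'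
    · exact .inr (by rw [cm, e'])
    · exact .inl (by rw [cm, e', inv_inv])

theorem neighbour_comm {y z x w v : G} (hp : Pair t y z) (hr : IsRoot y z x) (hw : IsRoot z y w)
    (hv : IsRoot (y * z) y v) (hwx : Commute w x) (hvx : Commute v x) :
    cm w v = x ∨ cm w v = x⁻¹ := by
  obtain ⟨c, f, hc, hf, hcx, hfx, hcu, hfu, hrel⟩ := exists_neighbours h hN hp hr
  obtain ⟨ι', h', hu, -⟩ := h.frame_root hp.conj_left hp.sq hp.ne_one hp.ne hp.comm hr.cube hr.ne_one
    hr.fixed hr.inverted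
  rcases hcu w hw.odd hwx hw.fixed with rfl | rfl | rfl
  · exact absurd rfl hw.ne_one
  all_goals rcases hfu v hv.odd hvx hv.fixed with rfl | rfl | rfl
  all_goals first
    | exact absurd rfl hv.ne_one
    | exact hrel
    | skip
  · rcases hrel with e | e
    · exact .inr (cm_inv_right e hfx.symm)
    · exact .inl (by rw [cm_inv_right e hfx.symm.inv_left, inv_inv])
  · rcases hrel with e | e
    · exact .inr (cm_inv_left e hcx.symm)
    · exact .inl (by rw [cm_inv_left e hcx.symm.inv_left, inv_inv])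
  · rcases hrel with e | e
    · refine .inl ?_
      rw [cm_inv_right (cm_inv_left e hcx.symm) (hfx.symm.inv_left), inv_inv]
    · refine .inr ?_
      rw [cm_inv_right (cm_inv_left e hcx.symm.inv_left) (by simpa using hfx.symm), inv_inv]

omit hN in
/-- Exactly two root subgroups with the same fixing involution. -/
theorem roots_two {y z x x' w : G} (hp : Pair t y z) (hr : IsRoot y z x) (hr' : IsRoot y z x')
    (hne : x' ≠ x ∧ x' ≠ x⁻¹) (hw : IsRoot y z w) : w = x ∨ w = x⁻¹ ∨ w = x' ∨ w = x'⁻¹ := by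
  obtain ⟨ι', h', hu, hs⟩ := h.frame_root hp.conj_left hp.sq hp.ne_one hp.ne hp.comm hr.cube hr.ne_one
    hr.fixed hr.inverted
  have key : ∀ {v : G}, IsRoot y z v → v = x ∨ v = x⁻¹ ∨ v = ι' lM ∨ v = (ι' lM)⁻¹ := by
    intro v hv
    obtain ⟨m, rfl⟩ := h'.mem v hv.fixed.eq
    have hm : m * (m * m) = 1 := h'.inj (by
      rw [map_mul, map_mul, map_one, ← hv.cube, pow_succ, pow_two, mul_assoc])
    have hinv : ι' sM * ι' m * (ι' sM)⁻¹ = (ι' m)⁻¹ := by
      rcases hs with e | e <;> rw [e]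
      exacts [hv.inverted, Pair.prod_inverts hv]
    have hi : sM * m * sM * m = 1 := h'.inj (by
      rw [map_mul, map_mul, map_mul, map_one]
      calc ι' sM * ι' m * ι' sM * ι' m = ι' sM * ι' m * (ι' sM)⁻¹ * ι' m := by
            rw [inv_eq_of_mul_eq_one_right (show ι' sM * ι' sM = 1 by
              rw [← map_mul, facts.2.2.2.2.1, map_one])]
        _ = 1 := by rw [hinv, inv_mul_cancel])
    rcases roots_cases m.val (by rw [← Units.val_mul, ← Units.val_mul, hm, Units.val_one])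
      (by rw [← Units.val_mul, ← Units.val_mul, ← Units.val_mul, hi, Units.val_one]) with
      e | e | e | e | e
    · exact absurd (by rw [show m = 1 from Units.ext e, map_one]) hv.ne_one
    · exact .inl (by rw [show m = uM from Units.ext e, hu])
    · exact .inr (.inl (by rw [show m = uM⁻¹ from Units.ext e, map_inv, hu]))
    · exact .inr (.inr (.inl (by rw [show m = lM from Units.ext e])))
    · exact .inr (.inr (.inr (by rw [show m = lM⁻¹ from Units.ext e, map_inv])))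
  rcases key hr' with e | e | e | e
  · exact absurd e hne.1
  · exact absurd e hne.2
  all_goals rcases key hw with e' | e' | e' | e' <;> simp [e, e']

/-- The relations. -/
theorem exists_hexagon : ∃ a b c d e f : G, a ≠ 1 ∧ a ^ 3 = 1 ∧ b ^ 3 = 1 ∧ c ^ 3 = 1 ∧
    d ^ 3 = 1 ∧ e ^ 3 = 1 ∧ f ^ 3 = 1 ∧
    (Commute a c ∧ Commute c b ∧ Commute b d ∧ Commute d e ∧ Commute e f ∧ Commute f a) ∧
    cm a b = c ∧ cm d c = b ∧ cm b e = d ∧ cm e a = f ∧ cm c f = a ∧ cm f d = e := by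
  obtain ⟨htt, ht1⟩ := orderOf_eq h
  obtain ⟨hru, hu1, hrl, hsu, hsl, hwu, hws, hsz, hs1', hzs2, hzs1, hzss, hzsz, hzc⟩ := root_facts
  set s := ι sM with hsdef
  have hst : Commute s t := h.comm_t sM
  have hss : s * s = 1 := by rw [hsdef, ← map_mul, facts.2.2.2.2.1, map_one]
  have hs1 : s ≠ 1 := fun e => hs1' (h.inj (e.trans (map_one ι).symm))
  have hne : s ≠ t := fun e => hsz (h.inj (e.trans h.map_z.symm))
  obtain ⟨hcs, hcr⟩ := Core.conj_other h
  set r := t * s with hrdef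
  have hts : t * (t * s) = s := by rw [← mul_assoc, htt, one_mul]
  have hsts : s * t = r := hst.eq
  have hrt : r * t = s := by rw [hrdef, mul_assoc, hst.eq, hts]
  have hpts : Pair t t s := ⟨IsConj.refl t, hcr, hss, hs1, hne, hst⟩
  have hpst : Pair t s t := ⟨hcs, hsts ▸ hcr, htt, ht1, hne.symm, hst.symm⟩
  have hrne : t ≠ r := fun e => hs1 (by
    have := congrArg (t * ·) e
    simp only [hts, htt, hrdef] at this
    exact this.symm)
  have hprt : Pair t r t := ⟨hcr, hrt ▸ hcs, htt, ht1, hrne, by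
    rw [hrdef]; exact (Commute.refl t).mul_right hst.symm⟩
  have hboth : ∀ x, Commute x t → Commute x s → Odd (orderOf x) → x = 1 :=
    fun x h1 h2 h3 => h.eq_one_of_commute_both h1 h2 h3
  -- roots of `t`
  have ha : IsRoot t s (ι uM) := ⟨by rw [← map_pow, hru, map_one],
    fun e => hu1 (h.inj (e.trans (map_one ι).symm)), h.comm_t uM,
    by rw [hsdef, ← map_inv, ← map_inv, ← map_mul, ← map_mul, hsu]⟩
  have hl : IsRoot t s (ι lM) := ⟨by rw [← map_pow, hrl, map_one],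
    fun e => hu1 (h.inj ((conj_eq_one_iff (a := ι swM)).mp (by
      rw [← map_inv, ← map_mul, ← map_mul, hwu, e]) |>.trans (map_one ι).symm)), h.comm_t lM,
    by rw [hsdef, ← map_inv, ← map_inv, ← map_mul, ← map_mul, hsl]⟩
  set a := ι uM with hadef
  obtain ⟨c₀, f₀, hc₀, hf₀, hc₀a, hf₀a, -, hf₀u, -⟩ := exists_neighbours h hN hpts ha
  obtain ⟨e₀, b₀, he₀, hb₀, he₀d, hb₀d, -, -, hdrel⟩ := exists_neighbours h hN hpts hl
  -- `f₀` is not `b₀` up to inversion, and similarly on the other axis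
  have hsep : ∀ {y x : G}, Pair t y t → IsRoot y t x → Commute x a → Commute x (ι lM) → False := by
    intro y x hpy hx hxa hxl
    obtain ⟨ι', h', hu', -⟩ := h.frame_root hpy.conj_left hpy.sq hpy.ne_one hpy.ne hpy.comm hx.cube
      hx.ne_one hx.fixed hx.inverted
    obtain ⟨O, hm, ho, -⟩ := h'.exists_core
    have ha' : a ∈ O := (hm a).mpr ⟨hu'.symm ▸ hxa.symm, ha.odd⟩
    have hl' : ι lM ∈ O := (hm _).mpr ⟨hu'.symm ▸ hxl.symm, hl.odd⟩
    have hw : (a * (ι lM)⁻¹ * a) ^ 2 = t := by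
      rw [hadef, ← map_inv, ← map_mul, ← map_mul, ← map_pow, weyl_facts.1, h.map_z]
    have htO : t ∈ O := hw ▸ pow_mem (mul_mem (mul_mem ha' (inv_mem hl')) ha') 2
    exact ht1 (eq_one_of_eq_inv ((hm t).mp htO).2 (inv_eq_of_mul_eq_one_right htt))
  have hfb : b₀ ≠ f₀ ∧ b₀ ≠ f₀⁻¹ := by
    constructor <;> intro e
    · exact hsep hprt hb₀ (e ▸ hf₀a) hb₀d
    · exact hsep hprt hb₀ (e ▸ hf₀a.inv_left) hb₀d
  have hce : c₀ ≠ e₀ ∧ c₀ ≠ e₀⁻¹ := by
    constructor <;> intro e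
    · exact hsep hpst hc₀ hc₀a (e ▸ he₀d)
    · exact hsep hpst hc₀ hc₀a (e ▸ he₀d.inv_left)
  -- the cycle closes
  have hcb : Commute c₀ b₀ := by
    obtain ⟨a', g, ha', hg, ha'c, hgc, hau, -, hrel⟩ := exists_neighbours h hN hpst hc₀
    rw [hsts] at hg
    have hgr : IsRoot r t g := ⟨hg.cube, hg.ne_one, hg.fixed, by
      have := Pair.prod_inverts (y := r) (z := s) (x := g) ⟨hg.cube, hg.ne_one, hg.fixed, hg.inverted⟩
      rwa [show r * s = t by rw [hrdef, mul_assoc, hss, mul_one]] at this⟩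
    rcases roots_two h hprt hf₀ hb₀ hfb hgr with e | e | e | e
    · exfalso
      have hcf : Commute c₀ f₀ := e ▸ hgc.symm
      rcases neighbour_comm h hN hpts ha hc₀ hf₀ hc₀a hf₀a with e' | e' <;>
        rw [cm, hcf.eq, mul_inv_cancel_right, mul_inv_cancel] at e'
      · exact ha.ne_one e'.symm
      · exact ha.ne_one (inv_eq_one.mp e'.symm)
    · exfalso
      have hcf : Commute c₀ f₀ := by
        have := hgc.symm
        rw [e] at this
        simpa using this.inv_right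
      rcases neighbour_comm h hN hpts ha hc₀ hf₀ hc₀a hf₀a with e' | e' <;>
        rw [cm, hcf.eq, mul_inv_cancel_right, mul_inv_cancel] at e'
      · exact ha.ne_one e'.symm
      · exact ha.ne_one (inv_eq_one.mp e'.symm)
    · exact e ▸ hgc.symm
    · have := hgc.symm
      rw [e] at this
      simpa using this.inv_right
  have hfe : Commute f₀ e₀ := by
    obtain ⟨a', g, ha', hg, ha'f, hgf, hau, -, hrel⟩ := exists_neighbours h hN hprt hf₀
    rw [hrt] at hg
    have hgs : IsRoot s t g := ⟨hg.cube, hg.ne_one, hg.fixed, by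
      have := Pair.prod_inverts (y := r) (z := r) (x := g)
      have h1 : r * g * r⁻¹ = g⁻¹ := hg.inverted
      have h2 : s * g * s⁻¹ = g := by rw [← hg.fixed.eq, mul_inv_cancel_right]
      calc t * g * t⁻¹ = t * (s * g * s⁻¹) * t⁻¹ := by rw [h2]
        _ = r * g * r⁻¹ := by rw [hrdef]; group
        _ = g⁻¹ := h1⟩
    rcases roots_two h hpst hc₀ he₀ ⟨fun e => hce.1 e.symm, fun e => hce.2 (by rw [e, inv_inv])⟩ hgs
      with e | e | e | e
    · exfalso
      have hcf : Commute c₀ f₀ := e ▸ hgf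
      rcases neighbour_comm h hN hpts ha hc₀ hf₀ hc₀a hf₀a with e' | e' <;>
        rw [cm, hcf.eq, mul_inv_cancel_right, mul_inv_cancel] at e'
      · exact ha.ne_one e'.symm
      · exact ha.ne_one (inv_eq_one.mp e'.symm)
    · exfalso
      have hcf : Commute c₀ f₀ := by simpa using (e ▸ hgf : Commute c₀⁻¹ f₀).inv_left
      rcases neighbour_comm h hN hpts ha hc₀ hf₀ hc₀a hf₀a with e' | e' <;>
        rw [cm, hcf.eq, mul_inv_cancel_right, mul_inv_cancel] at e'
      · exact ha.ne_one e'.symm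
      · exact ha.ne_one (inv_eq_one.mp e'.symm)
    · exact (e ▸ hgf).symm
    · simpa using (e ▸ hgf : Commute e₀⁻¹ f₀).inv_left.symm
  -- normalize
  set b := b₀ with hbdef
  obtain ⟨c, hc, hca, hcb', hab⟩ : ∃ c, IsRoot s t c ∧ Commute c a ∧ Commute c b ∧ cm a b = c := by
    have hb' : IsRoot (s * t) s b := hsts.symm ▸ ⟨hb₀.cube, hb₀.ne_one, hb₀.fixed, by
      calc s * b * s⁻¹ = s * b * s⁻¹ := rfl
        _ = t * (r * b * r⁻¹) * t⁻¹ := by rw [hrdef]; conv_rhs => rw [show t * (t * s * b * (t * s)⁻¹) * t⁻¹ = (t * (t * s)) * b * (t * (t * s))⁻¹ by group, hts]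
        _ = b⁻¹ := by rw [← hb₀.fixed.eq, mul_inv_cancel_right, hb₀.inverted]⟩
    rcases neighbour_comm h hN hpst hc₀ (show IsRoot t s a from ha) hb' hc₀a.symm hcb.symm with e | e
    · exact ⟨c₀, hc₀, hc₀a, hcb, e⟩
    · exact ⟨c₀⁻¹, hc₀.inv, hc₀a.inv_left, hcb.inv_left, e⟩
  have hcs' : IsRoot (r * t) r c := hrt.symm ▸ ⟨hc.cube, hc.ne_one, hc.fixed, by
    rw [hrdef]
    have := Pair.prod_inverts (y := s) (z := t) hc
    rw [show s * t = t * s from hst.eq] at this
    exact this⟩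
  obtain ⟨d, hd, hdb, hdeq, hdc⟩ : ∃ d, IsRoot t r d ∧ Commute d b ∧ (d = ι lM ∨ d = (ι lM)⁻¹) ∧
      cm d c = b := by
    have hl' : IsRoot t r (ι lM) := ⟨hl.cube, hl.ne_one, hl.fixed, Pair.prod_inverts hl⟩
    rcases neighbour_comm h hN hprt hb₀ hl' hcs' hb₀d.symm hcb' with e | e
    · exact ⟨ι lM, hl', hb₀d.symm, .inl rfl, e⟩
    · refine ⟨(ι lM)⁻¹, hl'.inv, hb₀d.symm.inv_left, .inr rfl, ?_⟩
      rw [cm_inv_left e (hb₀d.inv_left), inv_inv]
  obtain ⟨e, he, hed, hbe, hef₀⟩ : ∃ e, IsRoot s t e ∧ Commute e d ∧ cm b e = d ∧ Commute e f₀ := by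
    have hde : Commute e₀ d := by
      rcases hdeq with rfl | rfl
      exacts [he₀d, he₀d.inv_right]
    have hrel : cm e₀ b = d ∨ cm e₀ b = d⁻¹ := by
      rcases hdeq with rfl | rfl
      · exact hdrel
      · rw [inv_inv]; exact hdrel.symm
    rcases hrel with e' | e'
    · refine ⟨e₀⁻¹, he₀.inv, hde.inv_left, ?_, hfe.symm.inv_left⟩
      have := cm_inv_left e' hde.symm
      rw [cm_swap, this, inv_inv]
    · refine ⟨e₀, he₀, hde, ?_, hfe.symm⟩
      rw [cm_swap, e', inv_inv]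
  obtain ⟨f, hf, hfa, hfe', hea⟩ : ∃ f, IsRoot r t f ∧ Commute f a ∧ Commute f e ∧ cm e a = f := by
    have ha' : IsRoot t r a := ⟨ha.cube, ha.ne_one, ha.fixed, Pair.prod_inverts ha⟩
    have he' : IsRoot (r * t) r e := hrt.symm ▸ ⟨he.cube, he.ne_one, he.fixed, by
      rw [hrdef, show t * s = s * t from hst.eq.symm]
      exact Pair.prod_inverts he⟩
    rcases neighbour_comm h hN hprt hf₀ ha' he' hf₀a.symm hef₀ with e' | e'
    · refine ⟨f₀⁻¹, hf₀.inv, hf₀a.inv_left, hef₀.symm.inv_left, ?_⟩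
      rw [cm_swap, e']
    · refine ⟨f₀, hf₀, hf₀a, hef₀.symm, ?_⟩
      rw [cm_swap, e', inv_inv]
  have hbr : Commute b r := hb₀.fixed
  have htc : t * c * t⁻¹ = c⁻¹ := hc.inverted
  have hac : a * c * a⁻¹ = c := by rw [← hca.eq, mul_inv_cancel_right]
  have habb : a * b * a⁻¹ = c * b := by rw [← hab, cm]; group
  have hdd : d⁻¹ * c * d = b⁻¹ * c := by
    have h1 : d * c * d⁻¹ = b * c := by rw [← hdc, cm]; group
    have h2 : d * (b⁻¹ * c) * d⁻¹ = c := by
      rw [← conj_mul, h1, ← conj_inv, hdb.eq, mul_inv_cancel_right, inv_mul_cancel_left]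
    calc d⁻¹ * c * d = d⁻¹ * (d * (b⁻¹ * c) * d⁻¹) * d := by rw [h2]
      _ = b⁻¹ * c := by group
  have hdbd : d⁻¹ * b * d = b := by rw [hdb.inv_left.eq, inv_mul_cancel_right]
  set w := a * d⁻¹ * a with hw
  have hwc : w * c * w⁻¹ = b⁻¹ := by
    rw [hw, show a * d⁻¹ * a * c * (a * d⁻¹ * a)⁻¹ = a * (d⁻¹ * (a * c * a⁻¹) * d) * a⁻¹ by group,
      hac, hdd, show a * (b⁻¹ * c) * a⁻¹ = (a * b * a⁻¹)⁻¹ * (a * c * a⁻¹) by group, habb, hac,
      mul_inv_rev, inv_mul_cancel_right]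
  have hwb : w * b * w⁻¹ = c := by
    rw [hw, show a * d⁻¹ * a * b * (a * d⁻¹ * a)⁻¹ = a * (d⁻¹ * (a * b * a⁻¹) * d) * a⁻¹ by group,
      habb, show d⁻¹ * (c * b) * d = d⁻¹ * c * d * (d⁻¹ * b * d) by group, hdd, hdbd, mul_assoc b⁻¹ c b,
      hcb'.eq, inv_mul_cancel_left, hac]
  rcases hdeq with hdl | hdl
  swap
  · exfalso
    have h3 : w ^ 3 = t := by
      rw [hw, hdl, inv_inv, hadef, ← map_mul, ← map_mul, ← map_pow, weyl_facts.2.1, h.map_z]
    have h3c : w ^ 3 * c * (w ^ 3)⁻¹ = b := by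
      rw [show w ^ 3 * c * (w ^ 3)⁻¹ = w * (w * (w * c * w⁻¹) * w⁻¹) * w⁻¹ by
        simp only [pow_succ, pow_zero, one_mul]; group, hwc, ← conj_inv, hwb, ← conj_inv, hwc, inv_inv]
    rw [h3, htc] at h3c
    have h1 : Commute b s := h3c ▸ hc.fixed.inv_left
    have h2 : Commute b t := by
      have := hbr.mul_right h1
      rwa [hrdef, mul_assoc, hss, mul_one] at this
    exact hb₀.ne_one (hboth b h2 h1 hb₀.odd)
  subst hdl
  have hw2 : w ^ 2 = t := by
    rw [hw, hadef, ← map_inv, ← map_mul, ← map_mul, ← map_pow, weyl_facts.1, h.map_z]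
  have hwd : w * ι lM * w⁻¹ = a⁻¹ := by
    rw [hw, hadef]; simp only [← map_inv, ← map_mul, weyl_facts.2.2.1]
  have hwa : w * a * w⁻¹ = (ι lM)⁻¹ := by
    rw [hw, hadef]; simp only [← map_inv, ← map_mul, weyl_facts.2.2.2.1]
  have hws' : w * s * w⁻¹ = r := by
    rw [hw, hadef, hsdef, hrdef]; simp only [← map_inv, ← map_mul, weyl_facts.2.2.2.2]
    rw [map_mul, h.map_z]
  have hwe : w * e * w⁻¹ = f ∨ w * e * w⁻¹ = f⁻¹ := by
    have h1 : Commute (w * e * w⁻¹) r := by
      have := he.fixed.map (MulAut.conj w).toMonoidHom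
      simpa [hws'] using this
    have h2 : Commute (w * e * w⁻¹) a := by
      have := hed.map (MulAut.conj w).toMonoidHom
      simp only [MulEquiv.coe_toMonoidHom, MulAut.conj_apply, hwd] at this
      simpa using this.inv_right
    have h0 : Odd (orderOf (w * e * w⁻¹)) := by
      rw [show w * e * w⁻¹ = (MulAut.conj w).toMonoidHom e from rfl,
        orderOf_injective (MulAut.conj w).toMonoidHom (MulAut.conj w).injective]
      exact he.odd
    have hne' : w * e * w⁻¹ ≠ 1 := fun e' => he.ne_one (conj_eq_one_iff.mp e')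
    rcases hf₀u f hf.odd hfa hf.fixed with e' | e' | e' <;>
      rcases hf₀u _ h0 h2 h1 with e'' | e'' | e''
    all_goals first
      | exact absurd e' hf.ne_one
      | exact absurd e'' hne'
      | exact .inl (e''.trans e'.symm)
      | exact .inr (by simp [e'', e'])
  have hmain : cm c (w * e * w⁻¹) = a⁻¹ := by
    have := cm_conj w b e
    rw [hbe, hwb, hwd] at this
    exact this
  have htwice : w * (w * e * w⁻¹) * w⁻¹ = e⁻¹ := by
    rw [show w * (w * e * w⁻¹) * w⁻¹ = w ^ 2 * e * (w ^ 2)⁻¹ by rw [pow_two]; group, hw2, he.inverted]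
  have hmain' : cm (w * e * w⁻¹) (ι lM)⁻¹ = w * f * w⁻¹ := by
    have := cm_conj w e a
    rw [hea, hwa] at this
    exact this
  rcases hwe with hA | hB
  · exfalso
    rw [hA] at htwice hmain'
    rw [htwice] at hmain'
    have hfd : cm f (ι lM) = e := by
      have h1 := cm_inv_right hmain' hed.inv_inv
      rwa [inv_inv, inv_inv] at h1
    have hae : a * e * a⁻¹ = f⁻¹ * e := by
      calc a * e * a⁻¹ = (e * a * e⁻¹ * a⁻¹)⁻¹ * e := by group
        _ = f⁻¹ * e := by rw [← hea, cm]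
    have hdf : (ι lM)⁻¹ * f * ι lM = e * f := by
      have h1 : ι lM * (e * f) * (ι lM)⁻¹ = f := by
        have h2 : ι lM * f * (ι lM)⁻¹ = e⁻¹ * f := by rw [← hfd, cm]; group
        rw [← conj_mul, h2, ← hed.eq, mul_inv_cancel_right, mul_inv_cancel_left]
      conv_lhs => rw [← h1]
      group
    have hde : (ι lM)⁻¹ * e * ι lM = e := by rw [hed.symm.inv_left.eq, inv_mul_cancel_right]
    have hwe' : w * e * w⁻¹ = f⁻¹ := by
      rw [hw, show a * (ι lM)⁻¹ * a * e * (a * (ι lM)⁻¹ * a)⁻¹ =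
        a * ((ι lM)⁻¹ * (a * e * a⁻¹) * ι lM) * a⁻¹ by group, hae,
        show (ι lM)⁻¹ * (f⁻¹ * e) * ι lM = ((ι lM)⁻¹ * f * ι lM)⁻¹ * ((ι lM)⁻¹ * e * ι lM) by group,
        hdf, hde, mul_inv_rev, inv_mul_cancel_right, ← conj_inv, ← hfa.eq, mul_inv_cancel_right]
    have hff : f * f = 1 := by
      have := hA.symm.trans hwe'
      rw [mul_eq_one_iff_eq_inv]; exact this
    exact hf.ne_one (eq_one_of_eq_inv hf.odd (inv_eq_of_mul_eq_one_right hff))
  · rw [hB] at hmain hmain' htwice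
    have hcf : cm c f = a := by
      have := cm_inv_right hmain hfa.symm.inv_inv
      rwa [inv_inv, inv_inv] at this
    have hwf : w * f * w⁻¹ = e := by
      rw [← conj_inv] at htwice
      exact inv_injective htwice
    rw [hwf] at hmain'
    have hfd : cm f (ι lM) = e := by
      have h1 := cm_inv_left hmain' hfe'.symm.inv_right
      rw [inv_inv] at h1
      have h2 := cm_inv_right h1 hed.inv_inv
      rwa [inv_inv, inv_inv] at h2
    exact ⟨a, b, c, ι lM, e, f, ha.ne_one, ha.cube, hb₀.cube, hc.cube, hd.cube, he.cube, hf.cube,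
      ⟨hca.symm, hcb', hb₀d, hed.symm, hfe'.symm, hfa⟩, hab, hdc, hbe, hea, hcf, hfd⟩

end CfsgLib.GLTwoThree
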