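import Mathlib

/-!
Elements and decided facts in the general linear group of degree two over three elements.
-/

set_option autoImplicit false

namespace CfsgLib.GLTwoThree

/-- The model. -/
abbrev M23 := Matrix.GeneralLinearGroup (Fin 2) (ZMod 3)

/-- The central involution. -/
def zM : M23 := ⟨!![-1, 0; 0, -1], !![-1, 0; 0, -1], by decide, by decide⟩
/-- An element of order eight. -/
def fM : M23 := ⟨!![1, 1; 1, 0], !![0, 1; 1, -1], by decide, by decide⟩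
/-- An element of order six. -/
def sixM : M23 := ⟨!![2, 2; 0, 2], !![2, 1; 0, 2], by decide, by decide⟩
/-- A non-central involution. -/
def sM : M23 := ⟨!![1, 0; 0, 2], !![1, 0; 0, 2], by decide, by decide⟩
/-- An involution raising `fM` to the third power. -/
def rM : M23 := ⟨!![1, 0; 2, 2], !![1, 0; 2, 2], by decide, by decide⟩

/-- Units from matrices with non-zero determinant. -/
noncomputable def unitsEquiv (P : Matrix (Fin 2) (Fin 2) (ZMod 3) → Prop) :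
    {x : M23 // P x.val} ≃ {M : Matrix (Fin 2) (Fin 2) (ZMod 3) // M.det ≠ 0 ∧ P M} where
  toFun x := ⟨x.1.val, by
    have h : IsUnit (x.1.val.det) := (Matrix.isUnit_iff_isUnit_det _).mp x.1.isUnit
    exact h.ne_zero, x.2⟩
  invFun M := ⟨Matrix.GeneralLinearGroup.mkOfDetNeZero M.1 M.2.1, M.2.2⟩
  left_inv x := Subtype.ext (Units.ext rfl)
  right_inv M := Subtype.ext rfl

theorem card_comm (x : M23) :
    Nat.card {m : M23 // m * x = x * m} =
      Fintype.card {M : Matrix (Fin 2) (Fin 2) (ZMod 3) // M.det ≠ 0 ∧ M * x.val = x.val * M} := by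
  rw [← Nat.card_eq_fintype_card]
  exact Nat.card_congr ((Equiv.subtypeEquivRight fun m => by
    rw [Units.ext_iff, Units.val_mul, Units.val_mul]).trans
      (unitsEquiv fun M => M * x.val = x.val * M))

theorem card_mats :
    Fintype.card {M : Matrix (Fin 2) (Fin 2) (ZMod 3) // M.det ≠ 0 ∧ M * zM.val = zM.val * M} = 48 ∧
    Fintype.card {M : Matrix (Fin 2) (Fin 2) (ZMod 3) // M.det ≠ 0 ∧ M * sixM.val = sixM.val * M} = 6 ∧
    Fintype.card {M : Matrix (Fin 2) (Fin 2) (ZMod 3) //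
      M.det ≠ 0 ∧ M * (fM * fM).val = (fM * fM).val * M} = 8 ∧
    Fintype.card {M : Matrix (Fin 2) (Fin 2) (ZMod 3) // M.det ≠ 0 ∧ M * fM.val = fM.val * M} = 8 := by
  decide +kernel

theorem zM_central : ∀ M : Matrix (Fin 2) (Fin 2) (ZMod 3), M * zM.val = zM.val * M := by
  decide +kernel

theorem fM_not_real : ∀ M : Matrix (Fin 2) (Fin 2) (ZMod 3),
    M.det ≠ 0 → M * fM.val ≠ (fM⁻¹).val * M := by
  decide +kernel

theorem invol_cases : ∀ M : Matrix (Fin 2) (Fin 2) (ZMod 3), M * M = 1 → M = 1 ∨ M = zM.val ∨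
    ∃ X : Matrix (Fin 2) (Fin 2) (ZMod 3), X.det ≠ 0 ∧ X * sM.val = M * X := by
  decide +kernel

theorem four_cases : ∀ M : Matrix (Fin 2) (Fin 2) (ZMod 3), M * M = zM.val →
    ∃ X : Matrix (Fin 2) (Fin 2) (ZMod 3), X.det ≠ 0 ∧ X * (fM * fM).val = M * X := by
  decide +kernel

/-- A Sylow 2-subgroup, element by element. -/
def sylEl (k : Fin 16) : M23 := fM ^ ((k : ℕ) % 8) * rM ^ ((k : ℕ) / 8)

theorem sylEl_facts : (∀ i j : Fin 16, sylEl i = sylEl j → i = j) ∧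
    (∀ i j : Fin 16, ∃ k, sylEl i * sylEl j = sylEl k) := by
  decide +kernel

theorem sylEl_sq : (∀ i : Fin 16, 8 ≤ (i : ℕ) → (i : ℕ) % 2 = 0 → sylEl i * sylEl i = 1 ∧ sylEl i ≠ zM ∧ sylEl i ≠ 1) ∧
    (∀ i : Fin 16, 8 ≤ (i : ℕ) → (i : ℕ) % 2 = 1 → sylEl i * sylEl i = zM) := by
  decide +kernel

/-- The Sylow 2-subgroup. -/
def sylT : Subgroup M23 where
  carrier := Set.range sylEl
  mul_mem' := by
    rintro _ _ ⟨i, rfl⟩ ⟨j, rfl⟩
    obtain ⟨k, hk⟩ := sylEl_facts.2 i j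
    exact ⟨k, hk.symm⟩
  one_mem' := ⟨0, by decide +kernel⟩
  inv_mem' := by
    rintro _ ⟨i, rfl⟩
    have : ∀ i : Fin 16, ∃ k, (sylEl i)⁻¹ = sylEl k := by decide +kernel
    obtain ⟨k, hk⟩ := this i
    exact ⟨k, hk.symm⟩

theorem eight_not_invol : ∀ M : Matrix (Fin 2) (Fin 2) (ZMod 3), M * M = 1 →
    M * fM.val * (M * fM.val) = 1 → False := by
  decide +kernel

theorem six_pairs : Fintype.card {M : Matrix (Fin 2) (Fin 2) (ZMod 3) // M.det ≠ 0 ∧
    (M * M = 1 ∧ M ≠ 1 ∧ M * sixM.val * (M * sixM.val) = 1 ∧ M * sixM.val ≠ 1)} = 6 := by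
  decide +kernel

theorem facts : zM * zM = 1 ∧ zM ≠ 1 ∧ fM ^ 4 = zM ∧ sixM ^ 3 = zM ∧ sM * sM = 1 ∧
    rM * fM * rM⁻¹ = fM ^ 3 ∧ rM * (fM * fM) * rM⁻¹ = (fM * fM)⁻¹ ∧ sM * sixM * sM⁻¹ = sixM⁻¹ := by
  decide +kernel

end CfsgLib.GLTwoThree
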