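import Cfsg.Agent.GLTwoThree.Combinatorics
import Cfsg.Agent.GLTwoThree.Model
import Cfsg.Agent.Chars.Basic
import Cfsg.Agent.CentralizerFour.Characters
import Mathlib

/-!
A finite group with an involution centralizer GL(2,3) whose non-central involutions are fused to
the central one has order 5616 or 7920.
-/

set_option autoImplicit false

namespace CfsgLib.GLTwoThree

open Cfsg CfsgLib.Chars
open CfsgLib.CentralizerFour (card_conjugators_eq sum_irr_mul_conj_eq_card)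
open scoped ComplexConjugate

universe u

variable {G : Type u} [Group G] [Finite G]

/-- The hypotheses. -/
structure Hyp (t : G) (ι : M23 →* G) : Prop where
  inj : Function.Injective ι
  map_z : ι zM = t
  mem : ∀ g : G, g * t = t * g → ∃ m, ι m = g
  fused : IsConj t (ι sM)

/-- Powers of an element with a given exponent, as a homomorphism. -/
def powHom {M : Type*} [Monoid M] (n : ℕ) [NeZero n] (x : M) (h : x ^ n = 1) :
    Multiplicative (ZMod n) →* M where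
  toFun i := x ^ (Multiplicative.toAdd i).val
  map_one' := by simp
  map_mul' i j := by
    rw [← pow_add, toAdd_mul, ZMod.val_add]
    exact (pow_eq_pow_mod _ h).symm

/-- Multiplicity of a linear character on a cyclic subgroup. -/
theorem exists_cyclic_sum {H : Type u} [Group H] {χ : H → ℂ} (hχ : IsCharacter H χ) (n : ℕ)
    [NeZero n] (x : H) (hx : x ^ n = 1) (y : ℂ) (hy : y ^ n = 1) :
    ∃ m : ℕ, ∑ k : Fin n, χ (x ^ (k : ℕ)) * conj (y ^ (k : ℕ)) = (n : ℂ) * m := by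
  classical
  let x' : ULift.{u} (Multiplicative (ZMod n)) →* H :=
    (powHom n x hx).comp MulEquiv.ulift.toMonoidHom
  have hy0 : y ≠ 0 := fun h => by
    rw [h, zero_pow (NeZero.ne n)] at hy
    exact zero_ne_one hy
  let l : ULift.{u} (Multiplicative (ZMod n)) →* ℂˣ :=
    (powHom n (Units.mk0 y hy0) (Units.ext (by simpa using hy))).comp MulEquiv.ulift.toMonoidHom
  obtain ⟨m, hm⟩ := exists_nat_classInner (isCharacter_comp hχ x')
    ⟨fun i => (l i : ℂ), isIrrCharacter_monoidHom l⟩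
  refine ⟨m, ?_⟩
  have hn : Nat.card (ULift.{u} (Multiplicative (ZMod n))) = n := by
    rw [Nat.card_congr (Equiv.ulift.trans Multiplicative.toAdd), Nat.card_zmod]
  obtain ⟨k, rfl⟩ := Nat.exists_eq_succ_of_ne_zero (NeZero.ne n)
  simp only [classInner, hn] at hm
  rw [← mul_inv_cancel_left₀ (show ((k + 1 : ℕ) : ℂ) ≠ 0 by exact_mod_cast (Nat.succ_ne_zero k))
    (∑ i : Fin (k + 1), χ (x ^ (i : ℕ)) * conj (y ^ (i : ℕ)))]
  rw [← hm]
  congr 2
  refine (Fintype.sum_equiv (Equiv.ulift.trans Multiplicative.toAdd) _ _ fun i => ?_).symm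
  simp [x', l, powHom, ZMod.val, Function.comp_def]
  rfl

theorem orderOf_eq {t : G} {ι : M23 →* G} (h : Hyp t ι) : t * t = 1 ∧ t ≠ 1 := by
  obtain ⟨h1, h2, -⟩ := facts
  refine ⟨by rw [← h.map_z, ← map_mul, h1, map_one], fun e => h2 (h.inj ?_)⟩
  rw [h.map_z, e, map_one]

variable {t : G} {ι : M23 →* G} (h : Hyp t ι)
include h

theorem Hyp.comm_t (m : M23) : ι m * t = t * ι m := by
  rw [← h.map_z, ← map_mul, ← map_mul]
  exact congrArg ι (Units.ext (zM_central m.val))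

theorem Hyp.isConj_invol {m : M23} (h2 : m * m = 1) (h1 : m ≠ 1) : IsConj t (ι m) := by
  rcases invol_cases m.val (by rw [← Units.val_mul, h2, Units.val_one]) with e | e | ⟨X, hX, e⟩
  · exact absurd (Units.ext e) h1
  · rw [show m = zM from Units.ext e, h.map_z]
  · refine h.fused.trans (ι.map_isConj (isConj_iff.mpr
      ⟨Matrix.GeneralLinearGroup.mkOfDetNeZero X hX, ?_⟩))
    rw [mul_inv_eq_iff_eq_mul]
    exact Units.ext e

theorem Hyp.isConj_four {m : M23} (h2 : m * m = zM) : IsConj (ι (fM * fM)) (ι m) := by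
  obtain ⟨X, hX, e⟩ := four_cases m.val (by rw [← Units.val_mul, h2])
  refine ι.map_isConj (isConj_iff.mpr ⟨Matrix.GeneralLinearGroup.mkOfDetNeZero X hX, ?_⟩)
  rw [mul_inv_eq_iff_eq_mul]
  exact Units.ext e

/-- Centralizers of special elements lie in the centralizer of `t`. -/
theorem Hyp.card_centralizer (x : M23) (k : ℕ) (hx : x ^ k = zM) :
    Nat.card (Subgroup.centralizer ({ι x} : Set G)) = Nat.card {m : M23 // m * x = x * m} := by
  refine (Nat.card_congr (Equiv.ofBijective (fun m : {m : M23 // m * x = x * m} =>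
    (⟨ι m.1, Subgroup.mem_centralizer_singleton_iff.mpr (by rw [← map_mul, ← map_mul, m.2])⟩ :
      Subgroup.centralizer ({ι x} : Set G))) ⟨?_, ?_⟩)).symm
  · intro a b hab
    exact Subtype.ext (h.inj (congrArg Subtype.val hab))
  · rintro ⟨g, hg⟩
    have hg' : Commute g (ι x) := Subgroup.mem_centralizer_singleton_iff.mp hg
    have hgt : g * t = t * g := by
      have := (hg'.pow_right k).eq
      rwa [← map_pow, hx, h.map_z] at this
    obtain ⟨m, rfl⟩ := h.mem g hgt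
    exact ⟨⟨m, h.inj (by rw [map_mul, map_mul, hg'.eq])⟩, Subtype.ext rfl⟩

theorem Hyp.not_real : ¬ IsConj (ι fM) (ι fM⁻¹) := by
  intro hc
  obtain ⟨g, hg⟩ := isConj_iff.mp hc
  have hgt : g * t = t * g := by
    have h4 : g * ι fM ^ 4 * g⁻¹ = ι fM⁻¹ ^ 4 := by rw [← conj_pow, hg]
    rw [← map_pow, ← map_pow, inv_pow, facts.2.2.1, map_inv, h.map_z,
      inv_eq_of_mul_eq_one_right (orderOf_eq h).1] at h4
    exact mul_inv_eq_iff_eq_mul.mp h4
  obtain ⟨m, rfl⟩ := h.mem g hgt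
  rw [← map_inv, ← map_mul, ← map_mul] at hg
  have e : m * fM = fM⁻¹ * m := mul_inv_eq_iff_eq_mul.mp (h.inj hg)
  exact fM_not_real m.val ((Matrix.isUnit_iff_isUnit_det _).mp m.isUnit).ne_zero
    (by rw [← Units.val_mul, ← Units.val_mul, e])

omit h in
theorem sum_pairs [Fintype G] (t x : G) :
    ∑ g : G, Nat.card {k : G // k * (t * (g * t * g⁻¹)) * k⁻¹ = x} =
      Nat.card (Subgroup.centralizer ({t} : Set G)) ^ 2 *
        Nat.card {y : G // IsConj t y ∧ IsConj t (y⁻¹ * x)} := by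
  classical
  rw [← Nat.card_sigma]
  let e : (Σ g : G, {k : G // k * (t * (g * t * g⁻¹)) * k⁻¹ = x}) ≃
      {p : G × G // p.1 * t * p.1⁻¹ * (p.2 * t * p.2⁻¹) = x} :=
    { toFun := fun s => ⟨(s.2.1, s.2.1 * s.1), Eq.trans (by group) s.2.2⟩
      invFun := fun p => ⟨p.1.1⁻¹ * p.1.2, p.1.1, Eq.trans (by group) p.2⟩
      left_inv := fun ⟨g, k, hk⟩ => by
        have : k⁻¹ * (k * g) = g := inv_mul_cancel_left k g
        exact Sigma.subtype_ext this rfl
      right_inv := fun p => Subtype.ext (Prod.ext rfl (mul_inv_cancel_left _ _)) }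
  rw [Nat.card_congr e]
  let f : {p : G × G // p.1 * t * p.1⁻¹ * (p.2 * t * p.2⁻¹) = x} →
      {y : G // IsConj t y ∧ IsConj t (y⁻¹ * x)} := fun p =>
    ⟨p.1.1 * t * p.1.1⁻¹, isConj_iff.mpr ⟨p.1.1, rfl⟩,
      isConj_iff.mpr ⟨p.1.2, eq_inv_mul_of_mul_eq p.2⟩⟩
  rw [Nat.card_congr (Equiv.sigmaFiberEquiv f).symm, Nat.card_sigma]
  have hfib : ∀ y, Nat.card {p // f p = y} = Nat.card (Subgroup.centralizer ({t} : Set G)) ^ 2 := by
    intro y
    rw [pow_two]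
    nth_rewrite 1 [← card_conjugators_eq y.2.1]
    rw [← card_conjugators_eq y.2.2, ← Nat.card_prod]
    exact Nat.card_congr
      { toFun := fun p => (⟨p.1.1.1, congrArg Subtype.val p.2⟩, ⟨p.1.1.2, by
          have hy : p.1.1.1 * t * p.1.1.1⁻¹ = y.1 := congrArg Subtype.val p.2
          rw [← hy]
          exact eq_inv_mul_of_mul_eq p.1.2⟩)
        invFun := fun q => ⟨⟨(q.1.1, q.2.1), by
          change q.1.1 * t * q.1.1⁻¹ * (q.2.1 * t * q.2.1⁻¹) = x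
          rw [q.1.2, q.2.2, mul_inv_cancel_left]⟩, Subtype.ext q.1.2⟩
        left_inv := fun p => rfl
        right_inv := fun q => rfl }
  rw [Finset.sum_congr rfl (fun y _ => hfib y), Finset.sum_const, smul_eq_mul, mul_comm,
    Finset.card_univ, ← Nat.card_eq_fintype_card]

theorem Hyp.pairs_iff {y : G} {x : M23} (hx : x ^ 3 = zM ∨ x ^ 4 = zM)
    (h1 : IsConj t y) (h2 : IsConj t (y⁻¹ * ι x)) :
    ∃ m : M23, ι m = y ∧ m * m = 1 ∧ m ≠ 1 ∧ m * x * (m * x) = 1 ∧ m * x ≠ 1 := by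
  obtain ⟨htt, htne⟩ := orderOf_eq h
  have hsq : ∀ {v : G}, IsConj t v → v * v = 1 ∧ v ≠ 1 := by
    intro v hv
    obtain ⟨c, rfl⟩ := isConj_iff.mp hv
    refine ⟨?_, fun e => htne (conj_eq_one_iff.mp e)⟩
    rw [show c * t * c⁻¹ * (c * t * c⁻¹) = c * (t * t) * c⁻¹ by group, htt, mul_one, mul_inv_cancel]
  obtain ⟨hy, hy1⟩ := hsq h1
  have hyi : y⁻¹ = y := inv_eq_of_mul_eq_one_right hy
  obtain ⟨hz, hz1⟩ := hsq h2
  rw [hyi] at hz hz1
  have hinv : y * ι x * y⁻¹ = (ι x)⁻¹ := by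
    rw [hyi]
    exact eq_inv_of_mul_eq_one_left (by rw [mul_assoc (y * ι x), hz])
  have hc : y * t = t * y := by
    have key : ∀ k : ℕ, x ^ k = zM → y * t = t * y := fun k hk => by
      have e : y * ι x ^ k * y⁻¹ = (ι x)⁻¹ ^ k := by rw [← conj_pow, hinv]
      rw [inv_pow, ← map_pow, hk, h.map_z, inv_eq_of_mul_eq_one_right htt] at e
      exact mul_inv_eq_iff_eq_mul.mp e
    rcases hx with e | e <;> exact key _ e
  obtain ⟨m, rfl⟩ := h.mem y hc
  refine ⟨m, rfl, h.inj (by rw [map_mul, hy, map_one]), fun e => hy1 (by rw [e, map_one]),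
    h.inj ?_, fun e => hz1 ?_⟩
  · rw [map_mul, map_mul, hz, map_one]
  · rw [← map_mul, e, map_one]

theorem Hyp.pairs_eight : Nat.card {y : G // IsConj t y ∧ IsConj t (y⁻¹ * ι fM)} = 0 := by
  refine @Nat.card_of_isEmpty _ ⟨fun y => ?_⟩
  obtain ⟨m, -, hm, -, hm2, -⟩ := h.pairs_iff (.inr facts.2.2.1) y.2.1 y.2.2
  exact eight_not_invol m.val (by rw [← Units.val_mul, hm, Units.val_one])
    (by rw [← Units.val_mul, ← Units.val_mul, hm2, Units.val_one])

theorem Hyp.pairs_six : Nat.card {y : G // IsConj t y ∧ IsConj t (y⁻¹ * ι sixM)} = 6 := by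
  let P : M23 → Prop := fun m => m * m = 1 ∧ m ≠ 1 ∧ m * sixM * (m * sixM) = 1 ∧ m * sixM ≠ 1
  have hP : ∀ m : M23, P m → IsConj t (ι m) ∧ IsConj t ((ι m)⁻¹ * ι sixM) := by
    intro m hm
    refine ⟨h.isConj_invol hm.1 hm.2.1, ?_⟩
    rw [← map_inv, inv_eq_of_mul_eq_one_right hm.1, ← map_mul]
    exact h.isConj_invol hm.2.2.1 hm.2.2.2
  rw [← Nat.card_congr (Equiv.ofBijective (fun m : {m : M23 // P m} =>
    (⟨ι m.1, hP m.1 m.2⟩ : {y : G // IsConj t y ∧ IsConj t (y⁻¹ * ι sixM)})) ⟨fun a b e =>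
      Subtype.ext (h.inj (congrArg Subtype.val e)), fun y => ?_⟩)]
  · refine (Nat.card_congr ((Equiv.subtypeEquivRight fun m : M23 => ?_).trans
      (unitsEquiv fun M => M * M = 1 ∧ M ≠ 1 ∧ M * sixM.val * (M * sixM.val) = 1 ∧
        M * sixM.val ≠ 1))).trans (Nat.card_eq_fintype_card.trans six_pairs)
    simp only [P, Units.ext_iff, Units.val_mul, Units.val_one, ne_eq]
  · obtain ⟨m, hm, h'⟩ := h.pairs_iff (.inl facts.2.2.2.1) y.2.1 y.2.2
    exact ⟨⟨m, h'⟩, Subtype.ext hm⟩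

/-- The values of a character, integrally. -/
theorem Hyp.values (χ : IrrCharacter G) : ∃ A B C R K : ℤ,
    (χ : G → ℂ) t = A ∧ (χ : G → ℂ) (ι sixM) = B ∧ (χ : G → ℂ) (ι (fM * fM)) = C ∧
    (χ : G → ℂ) (ι fM) = R + K * ((Real.sqrt 2 : ℝ) * Complex.I) ∧
    (2 : ℤ) ∣ (A + 2 * B + 3 * R) ∧ (3 : ℤ) ∣ (A + 2 * B) ∧ (2 : ℤ) ∣ (-A - 2 * B + 3 * C) ∧
    (4 : ℤ) ∣ (A - 4 * B + 3 * C - 6 * K) ∧
    (16 : ℤ) ∣ (charDegree (χ : G → ℂ) : ℤ) + 5 * A + 6 * C + 4 * R := by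
  classical
  obtain ⟨hzz, hz1, hf4, hs3, hss, hrf, hrq, hsix⟩ := facts
  set φ : M23 → ℂ := fun m => (χ : G → ℂ) (ι m) with hφd
  have hφ' : IsCharacter M23 φ ∨ True := .inr trivial
  have hχ := isCharacter_coe χ
  have hcls : ∀ {a b : M23}, IsConj a b → φ a = φ b := fun hab =>
    eq_of_isConj (isClassFunction_coe χ) (ι.map_isConj hab)
  have hconjval : ∀ m : M23, φ m⁻¹ = conj (φ m) := fun m => by
    simp only [hφd, map_inv]; exact map_inv_eq_conj hχ (ι m)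
  set dd : ℂ := φ 1 with hdd
  have hd : dd = (charDegree (χ : G → ℂ) : ℂ) := by
    rw [hdd, hφd]; simp only [map_one]; exact (coe_charDegree χ).symm
  set Av := φ zM with hAv
  set Cv := φ (fM * fM) with hCv
  set Fv := φ fM with hFv
  have hf8 : fM ^ 8 = 1 := by rw [show 8 = 4 + 4 by rfl, pow_add, hf4, hzz]
  have hf3 : φ (fM ^ 3) = Fv := (hcls (isConj_iff.mpr ⟨rM, hrf⟩)).symm
  have hf5 : φ (fM ^ 5) = conj Fv := by
    rw [show fM ^ 5 = (fM ^ 3)⁻¹ from eq_inv_of_mul_eq_one_left (by rw [← pow_add, hf8]), hconjval, hf3]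
  have hf7 : φ (fM ^ 7) = conj Fv := by
    rw [show fM ^ 7 = fM⁻¹ from eq_inv_of_mul_eq_one_left (by rw [← pow_succ, hf8]), hconjval]
  have hf6 : φ (fM ^ 6) = Cv := by
    rw [show fM ^ 6 = (fM * fM)⁻¹ from eq_inv_of_mul_eq_one_left (by
      rw [← pow_two, ← pow_add, hf8])]
    exact (hcls (isConj_iff.mpr ⟨rM, hrq⟩)).symm
  have hCreal : conj Cv = Cv := by
    rw [hCv, ← hconjval]; exact (hcls (isConj_iff.mpr ⟨rM, hrq⟩)).symm
  have sum8 : ∀ y : ℂ, y ^ 8 = 1 → ∃ m : ℕ, dd + Fv * conj y + Cv * conj y ^ 2 +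
      Fv * conj y ^ 3 + Av * conj y ^ 4 + conj Fv * conj y ^ 5 + Cv * conj y ^ 6 +
      conj Fv * conj y ^ 7 = 8 * (m : ℂ) := by
    intro y hy
    obtain ⟨m, hm⟩ := exists_cyclic_sum hχ 8 (ι fM) (by rw [← map_pow, hf8, map_one]) y hy
    refine ⟨m, ?_⟩
    rw [Fin.sum_univ_eight] at hm
    have ev : ∀ k, (χ : G → ℂ) (ι fM ^ k) = φ (fM ^ k) := fun k => by simp only [hφd, map_pow]
    simp only [ev, map_pow (starRingEnd ℂ)] at hm
    norm_num at hm
    have h2 : φ (fM ^ 2) = Cv := by rw [hCv, pow_two]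
    rw [hf3, hf5, hf6, hf7, h2, hf4, ← hAv, ← hFv, ← hdd] at hm
    linear_combination hm
  set wI : ℂ := (Real.sqrt 2 : ℝ) * Complex.I with hwI
  have hw2 : ((Real.sqrt 2 : ℝ) : ℂ) * (Real.sqrt 2 : ℝ) = 2 := by
    rw [← Complex.ofReal_mul, Real.mul_self_sqrt (by norm_num)]; norm_num
  have hI : Complex.I * Complex.I = -1 := Complex.I_mul_I
  set ζ : ℂ := ((Real.sqrt 2 : ℝ) : ℂ) / 2 * (1 + Complex.I) with hζ
  have hζ2 : ζ * ζ = Complex.I := by
    rw [hζ]; linear_combination (1 + Complex.I) * (1 + Complex.I) / 4 * hw2 + (1 : ℂ) / 2 * hI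
  have hζ4 : ζ ^ 4 = -1 := by linear_combination (ζ * ζ + Complex.I) * hζ2 + hI
  have hζc : conj ζ = -(ζ ^ 3) := by
    rw [show ζ ^ 3 = Complex.I * ζ by rw [← hζ2]; ring, hζ]
    simp only [map_mul, map_div₀, map_add, map_one, Complex.conj_ofReal, Complex.conj_I, map_ofNat]
    linear_combination ((Real.sqrt 2 : ℝ) : ℂ) / 2 * hI
  have hζ8 : ζ ^ 8 = 1 := by linear_combination (ζ ^ 4 - 1) * hζ4
  obtain ⟨m0, e0⟩ := sum8 1 (one_pow _)
  obtain ⟨m4, e4⟩ := sum8 (-1) (by norm_num)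
  obtain ⟨m2, e2⟩ := sum8 Complex.I (by
    rw [show (8 : ℕ) = 2 * 4 by rfl, pow_mul, Complex.I_sq]; norm_num)
  obtain ⟨m1, e1⟩ := sum8 ζ hζ8
  obtain ⟨m5, e5⟩ := sum8 (-ζ) (by rw [Even.neg_pow (by decide), hζ8])
  simp only [map_one, map_neg, Complex.conj_I, hζc] at e0 e4 e2 e1 e5
  have hA' : Av = ((2 * m0 + 2 * m4 + 4 * m2 - charDegree (χ : G → ℂ) : ℤ) : ℂ) := by
    have hx : Cv * (-Complex.I) ^ 2 = -Cv := by linear_combination Cv * hI
    push_cast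
    ring_nf at e0 e4 e2 ⊢
    simp only [Complex.I_sq, Complex.I_pow_four, show Complex.I ^ 3 = -Complex.I from Complex.I_pow_three,
      show Complex.I ^ 5 = Complex.I by linear_combination (Complex.I ^ 3 - Complex.I) * hI,
      show Complex.I ^ 6 = -1 by linear_combination (Complex.I ^ 4 - Complex.I ^ 2 + 1) * hI,
      show Complex.I ^ 7 = -Complex.I by linear_combination (Complex.I ^ 5 - Complex.I ^ 3 + Complex.I) * hI] at e2
    rw [← hd]
    linear_combination e0 / 4 + e4 / 4 + e2 / 2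
  have hC' : Cv = ((m0 + m4 - 2 * m2 : ℤ) : ℂ) := by
    push_cast
    ring_nf at e0 e4 e2 ⊢
    simp only [Complex.I_sq, Complex.I_pow_four, show Complex.I ^ 3 = -Complex.I from Complex.I_pow_three,
      show Complex.I ^ 5 = Complex.I by linear_combination (Complex.I ^ 3 - Complex.I) * hI,
      show Complex.I ^ 6 = -1 by linear_combination (Complex.I ^ 4 - Complex.I ^ 2 + 1) * hI,
      show Complex.I ^ 7 = -Complex.I by linear_combination (Complex.I ^ 5 - Complex.I ^ 3 + Complex.I) * hI] at e2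
    linear_combination e0 / 8 + e4 / 8 - e2 / 4
  have hwI2 : wI * wI = -2 := by
    rw [hwI]; linear_combination Complex.I * Complex.I * hw2 + 2 * hI
  have hsumF : Fv + conj Fv = 2 * ((m0 - m4 : ℤ) : ℂ) := by
    push_cast; linear_combination e0 / 4 - e4 / 4
  have hz13 : ζ + ζ ^ 3 = wI := by
    rw [show ζ ^ 3 = Complex.I * ζ by rw [← hζ2]; ring, hζ, hwI]
    linear_combination ((Real.sqrt 2 : ℝ) : ℂ) / 2 * hI
  have hdifF : wI * (Fv - conj Fv) = 4 * ((m5 : ℂ) - m1) := by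
    linear_combination e5 / 2 - e1 / 2 + (-(Fv - conj Fv) : ℂ) * hz13 +
      (-Fv * ζ * (ζ ^ 4 - 1) - conj Fv * (ζ ^ 3 * (ζ ^ 8 - ζ ^ 4 + 1) +
        ζ * (ζ ^ 16 - ζ ^ 12 + ζ ^ 8 - ζ ^ 4 + 1)) : ℂ) * hζ4
  have hF : Fv = ((m0 - m4 : ℤ) : ℂ) + ((m1 - m5 : ℤ) : ℂ) * wI := by
    push_cast at hsumF ⊢
    linear_combination hsumF / 2 - wI / 4 * hdifF + (Fv - conj Fv) / 4 * hwI2
  -- the cyclic subgroup of order six
  set Bv := φ sixM with hBv
  set Pv := φ (sixM ^ 2) with hPv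
  have hs6 : sixM ^ 6 = 1 := by rw [show 6 = 3 + 3 by rfl, pow_add, hs3, hzz]
  have hB5 : φ (sixM ^ 5) = Bv := by
    rw [show sixM ^ 5 = sixM⁻¹ from eq_inv_of_mul_eq_one_left (by rw [← pow_succ, hs6])]
    exact (hcls (isConj_iff.mpr ⟨sM, hsix⟩)).symm
  have hP4 : φ (sixM ^ 4) = Pv := by
    rw [show sixM ^ 4 = (sixM⁻¹) ^ 2 by
      rw [inv_pow]; exact eq_inv_of_mul_eq_one_left (by rw [← pow_add, hs6])]
    refine (hcls (isConj_iff.mpr ⟨sM, ?_⟩)).symm
    rw [← conj_pow, hsix]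
  have sum6 : ∀ y : ℂ, y ^ 6 = 1 → ∃ m : ℕ, dd + Bv * conj y + Pv * conj y ^ 2 +
      Av * conj y ^ 3 + Pv * conj y ^ 4 + Bv * conj y ^ 5 = 6 * (m : ℂ) := by
    intro y hy
    obtain ⟨m, hm⟩ := exists_cyclic_sum hχ 6 (ι sixM) (by rw [← map_pow, hs6, map_one]) y hy
    refine ⟨m, ?_⟩
    rw [Fin.sum_univ_six] at hm
    have ev : ∀ k, (χ : G → ℂ) (ι sixM ^ k) = φ (sixM ^ k) := fun k => by simp only [hφd, map_pow]
    simp only [ev, map_pow (starRingEnd ℂ)] at hm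
    norm_num at hm
    rw [hB5, hP4, hs3, ← hAv, ← hBv, ← hPv, ← hdd] at hm
    linear_combination hm
  set ω : ℂ := (-1 + ((Real.sqrt 3 : ℝ) : ℂ) * Complex.I) / 2 with hω
  have hw3 : ((Real.sqrt 3 : ℝ) : ℂ) * (Real.sqrt 3 : ℝ) = 3 := by
    rw [← Complex.ofReal_mul, Real.mul_self_sqrt (by norm_num)]; norm_num
  have hω1 : ω * ω + ω + 1 = 0 := by
    rw [hω]; linear_combination Complex.I * Complex.I / 4 * hw3 + (3 : ℂ) / 4 * hI
  have hω3 : ω ^ 3 = 1 := by linear_combination (ω - 1) * hω1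
  have hωc : conj ω = ω * ω := by
    rw [show ω * ω = -ω - 1 by linear_combination hω1, hω]
    simp only [map_div₀, map_add, map_mul, map_neg, map_one, Complex.conj_ofReal, Complex.conj_I, map_ofNat]
    ring
  obtain ⟨n0, f0⟩ := sum6 1 (one_pow _)
  obtain ⟨n1, f1⟩ := sum6 (-1) (by norm_num)
  obtain ⟨nw, fw⟩ := sum6 ω (by linear_combination (ω ^ 3 + 1) * hω3)
  obtain ⟨nv, fv⟩ := sum6 (-ω) (by linear_combination (ω ^ 3 + 1) * hω3)
  simp only [map_one, map_neg, hωc] at f0 f1 fw fv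
  have hB' : Bv = ((n0 - n1 - nw + nv : ℤ) : ℂ) := by
    push_cast
    linear_combination f0 / 6 - f1 / 6 - fw / 6 + fv / 6 + (1 : ℂ) / 3 * Bv * hω1 +
      (Bv * (ω ^ 7 + ω ^ 4 + ω) / 3 + Av * (ω ^ 3 + 1) / 3 : ℂ) * hω3
  -- the Sylow subgroup
  obtain ⟨mT, hT⟩ : ∃ m : ℕ, (charDegree (χ : G → ℂ) : ℂ) + 5 * Av + 6 * Cv + 2 * (Fv + conj Fv) =
      16 * (m : ℂ) := by
    haveI : Fintype sylT := Fintype.ofFinite _
    haveI : Fintype (sylT.map ι) := Fintype.ofFinite _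
    obtain ⟨m, hm⟩ := exists_nat_classInner (isCharacter_restrict hχ (sylT.map ι)) (oneChar _)
    refine ⟨m, ?_⟩
    let e : Fin 16 ≃ sylT.map ι := Equiv.ofBijective
      (fun k => ⟨ι (sylEl k), Subgroup.mem_map_of_mem ι ⟨k, rfl⟩⟩)
      ⟨fun i j hij => sylEl_facts.1 i j (h.inj (congrArg Subtype.val hij)), fun v => by
        obtain ⟨x, ⟨k, rfl⟩, hx⟩ := Subgroup.mem_map.mp v.2
        exact ⟨k, Subtype.ext hx⟩⟩
    have hc16 : Nat.card (sylT.map ι) = 16 := by rw [← Nat.card_congr e, Nat.card_fin]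
    simp only [classInner, hc16, oneChar_apply, map_one, mul_one] at hm
    rw [← Equiv.sum_comp e] at hm
    change (16 : ℂ)⁻¹ * ∑ k, φ (sylEl k) = m at hm
    have hev : ∀ k : Fin 16, 8 ≤ (k : ℕ) → (k : ℕ) % 2 = 0 → φ (sylEl k) = Av := fun k h8 h2 => by
      obtain ⟨a, -, c⟩ := sylEl_sq.1 k h8 h2
      rw [hAv]; simp only [hφd, h.map_z]
      exact (eq_of_isConj (isClassFunction_coe χ) (h.isConj_invol a c)).symm
    have hod : ∀ k : Fin 16, 8 ≤ (k : ℕ) → (k : ℕ) % 2 = 1 → φ (sylEl k) = Cv := fun k h8 h2 =>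
      (eq_of_isConj (isClassFunction_coe χ) (h.isConj_four (sylEl_sq.2 k h8 h2))).symm
    have hlow : φ (sylEl 0) = dd ∧ φ (sylEl 1) = Fv ∧ φ (sylEl 2) = Cv ∧ φ (sylEl 3) = Fv ∧
        φ (sylEl 4) = Av ∧ φ (sylEl 5) = conj Fv ∧ φ (sylEl 6) = Cv ∧ φ (sylEl 7) = conj Fv := by
      have e0 : ∀ k : Fin 16, (k : ℕ) < 8 → sylEl k = fM ^ (k : ℕ) := fun k hk => by
        rw [sylEl, Nat.mod_eq_of_lt hk, Nat.div_eq_of_lt hk, pow_zero, mul_one]
      refine ⟨?_, ?_, ?_, ?_, ?_, ?_, ?_, ?_⟩ <;> rw [e0 _ (by decide)]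
      exacts [by rw [hdd]; rfl, by rw [hFv]; exact congrArg φ (pow_one _),
        by rw [hCv]; exact congrArg φ (pow_two _), hf3, by rw [hAv]; exact congrArg φ hf4,
        hf5, hf6, hf7]
    obtain ⟨g0, g1, g2, g3, g4, g5, g6, g7⟩ := hlow
    rw [show ∑ k : Fin 16, φ (sylEl k) = φ (sylEl 0) + φ (sylEl 1) + φ (sylEl 2) + φ (sylEl 3) +
      φ (sylEl 4) + φ (sylEl 5) + φ (sylEl 6) + φ (sylEl 7) + φ (sylEl 8) + φ (sylEl 9) +
      φ (sylEl 10) + φ (sylEl 11) + φ (sylEl 12) + φ (sylEl 13) + φ (sylEl 14) + φ (sylEl 15) by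
        simp only [Fin.sum_univ_succ, Fin.sum_univ_zero, add_zero, ← add_assoc]
        rfl, g0, g1, g2, g3, g4, g5, g6, g7, hev 8 (by decide) (by decide),
      hev 10 (by decide) (by decide), hev 12 (by decide) (by decide),
      hev 14 (by decide) (by decide), hod 9 (by decide) (by decide), hod 11 (by decide) (by decide),
      hod 13 (by decide) (by decide), hod 15 (by decide) (by decide), hd] at hm
    linear_combination 16 * hm
  refine ⟨2 * m0 + 2 * m4 + 4 * m2 - charDegree (χ : G → ℂ), n0 - n1 - nw + nv, m0 + m4 - 2 * m2,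
    m0 - m4, m1 - m5, ?_, hB', hC', hF, ?_⟩
  · rw [← h.map_z]; exact hA'
  have k1 : 2 * (2 * (m0 : ℤ) + 2 * m4 + 4 * m2 - charDegree (χ : G → ℂ)) + 4 * (n0 - n1 - nw + nv)
      = 6 * ((n0 : ℤ) - n1) := by
    have : ((2 * (2 * (m0 : ℤ) + 2 * m4 + 4 * m2 - charDegree (χ : G → ℂ)) +
        4 * (n0 - n1 - nw + nv) : ℤ) : ℂ) = ((6 * ((n0 : ℤ) - n1) : ℤ) : ℂ) := by
      push_cast at hA' hB' ⊢
      linear_combination f0 - f1 - 2 * hA' - 4 * hB'
    exact_mod_cast this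
  have k2 : (charDegree (χ : G → ℂ) : ℤ) + 5 * (2 * m0 + 2 * m4 + 4 * m2 - charDegree (χ : G → ℂ)) +
      6 * (m0 + m4 - 2 * m2) + 4 * (m0 - m4) = 16 * mT := by
    have : (((charDegree (χ : G → ℂ) : ℤ) + 5 * (2 * m0 + 2 * m4 + 4 * m2 - charDegree (χ : G → ℂ)) +
        6 * (m0 + m4 - 2 * m2) + 4 * (m0 - m4) : ℤ) : ℂ) = ((16 * mT : ℤ) : ℂ) := by
      push_cast at hA' hC' hsumF ⊢
      linear_combination hT - 5 * hA' - 6 * hC' - 2 * hsumF
    exact_mod_cast this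
  have k3 : (charDegree (χ : G → ℂ) : ℤ) - (2 * m0 + 2 * m4 + 4 * m2 - charDegree (χ : G → ℂ)) +
      4 * (m1 - m5) = 8 * m1 := by
    have : (((charDegree (χ : G → ℂ) : ℤ) - (2 * m0 + 2 * m4 + 4 * m2 - charDegree (χ : G → ℂ)) +
        4 * (m1 - m5) : ℤ) : ℂ) = ((8 * m1 : ℤ) : ℂ) := by
      push_cast at hA' ⊢
      linear_combination e1 / 2 + e5 / 2 + hA' - hd +
        (-(Av + Cv * ζ ^ 6) * (ζ ^ 8 - ζ ^ 4 + 1) : ℂ) * hζ4
    exact_mod_cast this
  refine ⟨?_, ?_, ?_, ?_, ?_⟩ <;> omega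

open scoped Classical in
/-- The order of the group. -/
theorem Hyp.card_eq : Nat.card G = 5616 ∨ Nat.card G = 7920 := by
  haveI := Fintype.ofFinite G
  choose A B C R K hA hB hC hF d1 d2 d3 d4 d5 using h.values
  obtain ⟨hzz, hz1, hf4, hs3, hss, hrf, hrq, hsix⟩ := facts
  obtain ⟨htt, htne⟩ := orderOf_eq h
  have ct : Nat.card (Subgroup.centralizer ({t} : Set G)) = 48 := by
    rw [← h.map_z, h.card_centralizer zM 1 (pow_one _), card_comm, card_mats.1]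
  have c6 : Nat.card (Subgroup.centralizer ({ι sixM} : Set G)) = 6 := by
    rw [h.card_centralizer sixM 3 hs3, card_comm, card_mats.2.1]
  have c4 : Nat.card (Subgroup.centralizer ({ι (fM * fM)} : Set G)) = 8 := by
    rw [h.card_centralizer (fM * fM) 2 (by rw [← hf4, ← pow_two, ← pow_mul]), card_comm, card_mats.2.2.1]
  have c8 : Nat.card (Subgroup.centralizer ({ι fM} : Set G)) = 8 := by
    rw [h.card_centralizer fM 4 hf4, card_comm, card_mats.2.2.2]
  have hne : ∀ {x y : M23} (k : ℕ), x ^ k = 1 → y ^ k ≠ 1 → ¬ IsConj (ι x) (ι y) := by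
    intro x y k hx hy hc
    obtain ⟨g, hg⟩ := isConj_iff.mp hc
    refine hy (h.inj ?_)
    rw [map_pow, ← hg, conj_pow, ← map_pow, hx, map_one, mul_one, mul_inv_cancel]
  have hneT : ∀ {y : M23} (k : ℕ), zM ^ k = 1 → y ^ k ≠ 1 → ¬ IsConj t (ι y) := fun k h1 h2 => by
    rw [← h.map_z]; exact hne k h1 h2
  obtain ⟨n26, n24, n28, n64, n68, n48⟩ : sixM ^ 2 ≠ 1 ∧ (fM * fM) ^ 2 ≠ 1 ∧ fM ^ 2 ≠ 1 ∧
      (fM * fM) ^ 6 ≠ 1 ∧ fM ^ 6 ≠ 1 ∧ fM ^ 4 ≠ 1 := by decide +kernel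
  obtain ⟨s6, s4⟩ : sixM ^ 6 = 1 ∧ (fM * fM) ^ 4 = 1 := by decide +kernel
  have hz2 : zM ^ 2 = 1 := by rw [pow_two, hzz]
  set wI : ℂ := (Real.sqrt 2 : ℝ) * Complex.I with hwI
  have hFc : ∀ χ : IrrCharacter G, conj ((χ : G → ℂ) (ι fM)) = R χ - K χ * wI := fun χ => by
    rw [hF, map_add, map_mul, hwI, map_mul, map_intCast, map_intCast, Complex.conj_ofReal,
      Complex.conj_I]
    ring
  have hsep : ∀ x y n : ℤ, (x : ℂ) + (y : ℂ) * wI = n → x = n ∧ y = 0 := by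
    intro x y n hxy
    have h1 := congrArg Complex.re hxy
    have h2 := congrArg Complex.im hxy
    simp [hwI] at h1 h2
    exact ⟨by exact_mod_cast h1, h2⟩
  have col : ∀ x y : G, ∑ χ : IrrCharacter G, (χ : G → ℂ) x * conj ((χ : G → ℂ) y) =
      if IsConj x y then (Nat.card (Subgroup.centralizer ({x} : Set G)) : ℂ) else 0 :=
    fun x y => by convert sum_irr_mul_conj x y
  have sAA : ∑ χ, A χ * A χ = 48 := by
    have e := col t t
    rw [if_pos (IsConj.refl t), ct] at e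
    simp only [hA, map_intCast] at e
    exact_mod_cast e
  have sBB : ∑ χ, B χ * B χ = 6 := by
    have e := col (ι sixM) (ι sixM)
    rw [if_pos (IsConj.refl _), c6] at e
    simp only [hB, map_intCast] at e
    exact_mod_cast e
  have sCC : ∑ χ, C χ * C χ = 8 := by
    have e := col (ι (fM * fM)) (ι (fM * fM))
    rw [if_pos (IsConj.refl _), c4] at e
    simp only [hC, map_intCast] at e
    exact_mod_cast e
  have sAB : ∑ χ, A χ * B χ = 0 := by
    have e := col t (ι sixM)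
    rw [if_neg (hneT 2 hz2 n26)] at e
    simp only [hA, hB, map_intCast] at e
    exact_mod_cast e
  have sAC : ∑ χ, A χ * C χ = 0 := by
    have e := col t (ι (fM * fM))
    rw [if_neg (hneT 2 hz2 n24)] at e
    simp only [hA, hC, map_intCast] at e
    exact_mod_cast e
  have sBC : ∑ χ, B χ * C χ = 0 := by
    have e := col (ι sixM) (ι (fM * fM))
    rw [if_neg (hne 6 s6 n64)] at e
    simp only [hB, hC, map_intCast] at e
    exact_mod_cast e
  have hw2 : wI * wI = -2 := by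
    rw [hwI, mul_mul_mul_comm, ← Complex.ofReal_mul, Real.mul_self_sqrt (by norm_num),
      Complex.I_mul_I]
    norm_num
  have mix : ∀ (X : IrrCharacter G → ℤ) (x : G), (∀ χ : IrrCharacter G, (χ : G → ℂ) x = X χ) →
      ¬ IsConj x (ι fM) → (∑ χ, X χ * R χ = 0 ∧ ∑ χ, X χ * K χ = 0) := by
    intro X x hX hn
    have e := col x (ι fM)
    rw [if_neg hn] at e
    simp only [hX, hFc] at e
    have e' : ((∑ χ, X χ * R χ : ℤ) : ℂ) + ((-∑ χ, X χ * K χ : ℤ) : ℂ) * wI = ((0 : ℤ) : ℂ) := by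
      push_cast
      rw [neg_mul, Finset.sum_mul, ← sub_eq_add_neg, ← Finset.sum_sub_distrib, ← e]
      exact Finset.sum_congr rfl fun χ _ => by ring
    obtain ⟨h1, h2⟩ := hsep _ _ _ e'
    exact ⟨h1, neg_eq_zero.mp h2⟩
  obtain ⟨sAR, sAK⟩ := mix A t hA (hneT 2 hz2 n28)
  obtain ⟨sBR, sBK⟩ := mix B _ hB (hne 6 s6 n68)
  obtain ⟨sCR, sCK⟩ := mix C _ hC (hne 4 s4 n48)
  obtain ⟨sRR, sKK, sRK⟩ : ∑ χ, R χ * R χ = 4 ∧ ∑ χ, K χ * K χ = 2 ∧ ∑ χ, R χ * K χ = 0 := by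
    have e := col (ι fM) (ι fM)
    rw [if_pos (IsConj.refl _), c8] at e
    simp only [hFc] at e
    simp only [hF] at e
    have e' := col (ι fM) (ι fM⁻¹)
    rw [if_neg h.not_real] at e'
    have hinv : ∀ χ : IrrCharacter G, conj ((χ : G → ℂ) (ι fM⁻¹)) = R χ + K χ * wI := fun χ => by
      rw [map_inv, map_inv_eq_conj (isCharacter_coe χ), Complex.conj_conj, hF]
    simp only [hinv] at e'
    simp only [hF] at e'
    have a1 : ((∑ χ, R χ * R χ + 2 * ∑ χ, K χ * K χ : ℤ) : ℂ) + ((0 : ℤ) : ℂ) * wI = ((8 : ℤ) : ℂ) := by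
      push_cast
      rw [zero_mul, add_zero, Finset.mul_sum, ← Finset.sum_add_distrib]
      refine (Finset.sum_congr rfl fun χ _ => ?_).trans e
      linear_combination (K χ : ℂ) * K χ * hw2
    have a2 : ((∑ χ, R χ * R χ - 2 * ∑ χ, K χ * K χ : ℤ) : ℂ) +
        ((2 * ∑ χ, R χ * K χ : ℤ) : ℂ) * wI = ((0 : ℤ) : ℂ) := by
      push_cast
      rw [mul_assoc, Finset.sum_mul, Finset.mul_sum, Finset.mul_sum, ← Finset.sum_sub_distrib,
        ← Finset.sum_add_distrib]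
      refine (Finset.sum_congr rfl fun χ _ => ?_).trans e'
      linear_combination -((K χ : ℂ) * K χ) * hw2
    obtain ⟨p1, -⟩ := hsep _ _ _ a1
    obtain ⟨p2, p3⟩ := hsep _ _ _ a2
    omega
  have deg : ∀ (x : G), x ≠ 1 → ∀ (X : IrrCharacter G → ℤ),
      (∀ χ : IrrCharacter G, (χ : G → ℂ) x = X χ) →
      ∑ χ : IrrCharacter G, (charDegree (χ : G → ℂ) : ℤ) * X χ = 0 := by
    intro x hx X hX
    have e := sum_irr_map_one_mul x
    rw [if_neg hx] at e
    simp only [hX, ← coe_charDegree] at e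
    exact_mod_cast e
  have hne1 : ∀ {x : M23}, x ≠ 1 → ι x ≠ 1 := fun hx e => hx (h.inj (e.trans (map_one ι).symm))
  have sdA := deg t htne A hA
  have sdB := deg (ι sixM) (hne1 (fun e => n26 (by rw [e, one_pow]))) B hB
  have sdC := deg (ι (fM * fM)) (hne1 (fun e => n24 (by rw [e, one_pow]))) C hC
  obtain ⟨sdR, sdK⟩ : ∑ χ : IrrCharacter G, (charDegree (χ : G → ℂ) : ℤ) * R χ = 0 ∧
      ∑ χ : IrrCharacter G, (charDegree (χ : G → ℂ) : ℤ) * K χ = 0 := by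
    have e := sum_irr_map_one_mul (ι fM)
    rw [if_neg (hne1 (fun e => n28 (by rw [e, one_pow])))] at e
    simp only [hF, ← coe_charDegree] at e
    refine hsep _ _ 0 ?_
    push_cast
    rw [Finset.sum_mul, ← Finset.sum_add_distrib, ← e]
    exact Finset.sum_congr rfl fun χ _ => by ring
  -- the five columns
  have hex : ∀ χ, ∃ a b c u w : ℤ, 6 * c = A χ + 2 * B χ + 3 * R χ ∧
      6 * u = A χ + 2 * B χ - 3 * R χ ∧ 6 * w = -A χ - 2 * B χ + 3 * C χ ∧
      12 * b = A χ - 4 * B χ + 3 * C χ - 6 * K χ ∧ a = K χ := by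
    intro χ
    have := d1 χ; have := d2 χ; have := d3 χ; have := d4 χ
    refine ⟨K χ, (A χ - 4 * B χ + 3 * C χ - 6 * K χ) / 12, (A χ + 2 * B χ + 3 * R χ) / 6,
      (A χ + 2 * B χ - 3 * R χ) / 6, (-A χ - 2 * B χ + 3 * C χ) / 6, ?_, ?_, ?_, ?_, rfl⟩ <;> omega
  choose a b c u w rc ru rw' rb ra using hex
  have tT : ∀ χ, colT (a χ) (b χ) (c χ) (u χ) (w χ) = A χ := fun χ => by
    simp only [colT]; linarith [rc χ, ru χ, rw' χ, rb χ, ra χ]
  have t6 : ∀ χ, colSix (a χ) (b χ) (c χ) (u χ) (w χ) = B χ := fun χ => by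
    simp only [colSix]; linarith [rc χ, ru χ, rw' χ, rb χ, ra χ]
  have t4 : ∀ χ, colFour (c χ) (u χ) (w χ) = C χ := fun χ => by
    simp only [colFour]; linarith [rc χ, ru χ, rw' χ]
  have t8 : ∀ χ, colEight (c χ) (u χ) = R χ := fun χ => by
    simp only [colEight]; linarith [rc χ, ru χ]
  have inner : ∀ (X Y : IrrCharacter G → ℤ) (k : ℤ) (p q : Fin 5 → ℤ),
      (∀ χ, k * (X χ) = p 0 * A χ + p 1 * B χ + p 2 * C χ + p 3 * R χ + p 4 * K χ) →
      (∀ χ, k * (Y χ) = q 0 * A χ + q 1 * B χ + q 2 * C χ + q 3 * R χ + q 4 * K χ) →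
      k * k * ∑ χ, X χ * Y χ = 48 * (p 0 * q 0) + 6 * (p 1 * q 1) + 8 * (p 2 * q 2) +
        4 * (p 3 * q 3) + 2 * (p 4 * q 4) := by
    intro X Y k p q hX hY
    have e : ∀ χ, k * k * (X χ * Y χ) =
        p 0 * q 0 * (A χ * A χ) + p 1 * q 1 * (B χ * B χ) + p 2 * q 2 * (C χ * C χ) +
        p 3 * q 3 * (R χ * R χ) + p 4 * q 4 * (K χ * K χ) +
        (p 0 * q 1 + p 1 * q 0) * (A χ * B χ) + (p 0 * q 2 + p 2 * q 0) * (A χ * C χ) +
        (p 0 * q 3 + p 3 * q 0) * (A χ * R χ) + (p 0 * q 4 + p 4 * q 0) * (A χ * K χ) +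
        (p 1 * q 2 + p 2 * q 1) * (B χ * C χ) + (p 1 * q 3 + p 3 * q 1) * (B χ * R χ) +
        (p 1 * q 4 + p 4 * q 1) * (B χ * K χ) + (p 2 * q 3 + p 3 * q 2) * (C χ * R χ) +
        (p 2 * q 4 + p 4 * q 2) * (C χ * K χ) + (p 3 * q 4 + p 4 * q 3) * (R χ * K χ) := fun χ => by
      calc k * k * (X χ * Y χ) = (k * X χ) * (k * Y χ) := by ring
        _ = _ := by rw [hX, hY]; ring
    rw [Finset.mul_sum, Finset.sum_congr rfl (fun χ _ => e χ)]
    simp only [Finset.sum_add_distrib, ← Finset.mul_sum, sAA, sBB, sCC, sRR, sKK, sAB, sAC, sAR,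
      sAK, sBC, sBR, sBK, sCR, sCK, sRK]
    ring
  have va : ∀ χ, (12 : ℤ) * a χ = ![0, 0, 0, 0, 12] 0 * A χ + ![0, 0, 0, 0, 12] 1 * B χ +
      ![0, 0, 0, 0, 12] 2 * C χ + ![0, 0, 0, 0, 12] 3 * R χ + ![0, 0, 0, 0, 12] 4 * K χ := fun χ => by
    simp; linarith [ra χ]
  have vb : ∀ χ, (12 : ℤ) * b χ = ![1, -4, 3, 0, -6] 0 * A χ + ![1, -4, 3, 0, -6] 1 * B χ +
      ![1, -4, 3, 0, -6] 2 * C χ + ![1, -4, 3, 0, -6] 3 * R χ + ![1, -4, 3, 0, -6] 4 * K χ := fun χ => by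
    simp; linarith [rb χ]
  have vc : ∀ χ, (12 : ℤ) * c χ = ![2, 4, 0, 6, 0] 0 * A χ + ![2, 4, 0, 6, 0] 1 * B χ +
      ![2, 4, 0, 6, 0] 2 * C χ + ![2, 4, 0, 6, 0] 3 * R χ + ![2, 4, 0, 6, 0] 4 * K χ := fun χ => by
    simp; linarith [rc χ]
  have vu : ∀ χ, (12 : ℤ) * u χ = ![2, 4, 0, -6, 0] 0 * A χ + ![2, 4, 0, -6, 0] 1 * B χ +
      ![2, 4, 0, -6, 0] 2 * C χ + ![2, 4, 0, -6, 0] 3 * R χ + ![2, 4, 0, -6, 0] 4 * K χ := fun χ => by
    simp; linarith [ru χ]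
  have vw : ∀ χ, (12 : ℤ) * w χ = ![-2, -4, 6, 0, 0] 0 * A χ + ![-2, -4, 6, 0, 0] 1 * B χ +
      ![-2, -4, 6, 0, 0] 2 * C χ + ![-2, -4, 6, 0, 0] 3 * R χ + ![-2, -4, 6, 0, 0] 4 * K χ := fun χ => by
    simp; linarith [rw' χ]
  have dcomb : ∀ (X : IrrCharacter G → ℤ) (p : Fin 5 → ℤ),
      (∀ χ, (12 : ℤ) * (X χ) = p 0 * A χ + p 1 * B χ + p 2 * C χ + p 3 * R χ + p 4 * K χ) →
      ∑ χ : IrrCharacter G, (charDegree (χ : G → ℂ) : ℤ) * X χ = 0 := by
    intro X p hX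
    refine mul_left_cancel₀ (show (12 : ℤ) ≠ 0 by norm_num) ?_
    rw [mul_zero, Finset.mul_sum]
    have e : ∀ χ : IrrCharacter G, 12 * ((charDegree (χ : G → ℂ) : ℤ) * X χ) =
        p 0 * ((charDegree (χ : G → ℂ) : ℤ) * A χ) + p 1 * ((charDegree (χ : G → ℂ) : ℤ) * B χ) +
        p 2 * ((charDegree (χ : G → ℂ) : ℤ) * C χ) + p 3 * ((charDegree (χ : G → ℂ) : ℤ) * R χ) +
        p 4 * ((charDegree (χ : G → ℂ) : ℤ) * K χ) := fun χ => by
      rw [mul_left_comm, hX]; ring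
    rw [Finset.sum_congr rfl (fun χ _ => e χ)]
    simp only [Finset.sum_add_distrib, ← Finset.mul_sum, sdA, sdB, sdC, sdR, sdK]
    ring
  have heq : ∀ x : G, ∑ χ : IrrCharacter G, (χ : G → ℂ) t ^ 2 / (χ : G → ℂ) 1 *
      conj ((χ : G → ℂ) x) = (Nat.card G : ℂ)⁻¹ *
        ((48 ^ 2 * Nat.card {y : G // IsConj t y ∧ IsConj t (y⁻¹ * x)} : ℕ) : ℂ) := by
    intro x
    have e : ∀ χ : IrrCharacter G,
        (χ : G → ℂ) t ^ 2 / (χ : G → ℂ) 1 * conj ((χ : G → ℂ) x) =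
        (Nat.card G : ℂ)⁻¹ * ∑ g : G, (χ : G → ℂ) (t * (g * t * g⁻¹)) *
          conj ((χ : G → ℂ) x) := by
      intro χ
      have hN : (Nat.card G : ℂ) ≠ 0 := natCard_ne_zero
      rw [← Finset.sum_mul, sum_map_mul_conjugate]
      field_simp
    rw [Finset.sum_congr rfl (fun χ _ => e χ), ← Finset.mul_sum, Finset.sum_comm]
    simp only [sum_irr_mul_conj_eq_card]
    rw [← Nat.cast_sum, sum_pairs t x, ct]
  have hone : (charDegree (oneChar G : G → ℂ) : ℤ) = 1 := by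
    exact_mod_cast (charDegree_eq_one_iff _).mpr (by simp)
  have v1 : ∀ x : G, (oneChar G : G → ℂ) x = 1 := fun x => oneChar_apply x
  have o1 : A (oneChar G) = 1 ∧ B (oneChar G) = 1 ∧ C (oneChar G) = 1 ∧ R (oneChar G) = 1 ∧
      K (oneChar G) = 0 := by
    refine ⟨?_, ?_, ?_, ?_⟩
    · have e := hA (oneChar G); rw [v1] at e; exact_mod_cast e.symm
    · have e := hB (oneChar G); rw [v1] at e; exact_mod_cast e.symm
    · have e := hC (oneChar G); rw [v1] at e; exact_mod_cast e.symm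
    · have e := hF (oneChar G)
      rw [v1] at e
      refine hsep _ _ 1 ?_
      rw [hwI]; exact_mod_cast e.symm
  obtain ⟨oA, oB, oC, oR, oK⟩ := o1
  refine order_eq (oneChar G) (fun χ => (charDegree (χ : G → ℂ) : ℤ)) a b c u w (Nat.card G)
    (fun χ => by exact_mod_cast charDegree_pos χ) ?_ ?_ ?_ ?_ ?_ ?_ ?_ ?_ ?_ ?_ ?_ ?_ ?_ ?_ ?_ ?_
    (dcomb a _ va) (dcomb b _ vb) (dcomb c _ vc) (dcomb u _ vu) (dcomb w _ vw) ?_ ?_ ?_
  · have := rc (oneChar G); have := ru (oneChar G); have := rw' (oneChar G); have := rb (oneChar G)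
    have := ra (oneChar G)
    refine ⟨hone, ?_, ?_, ?_, ?_, ?_⟩ <;> omega
  · have := inner a a 12 _ _ va va; simp at this; linarith
  · have := inner b b 12 _ _ vb vb; simp at this; linarith
  · have := inner c c 12 _ _ vc vc; simp at this; linarith
  · have := inner u u 12 _ _ vu vu; simp at this; linarith
  · have := inner w w 12 _ _ vw vw; simp at this; linarith
  · have := inner a b 12 _ _ va vb; simp at this; linarith
  · have := inner a c 12 _ _ va vc; simp at this; linarith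
  · have := inner a u 12 _ _ va vu; simp at this; linarith
  · have := inner a w 12 _ _ va vw; simp at this; linarith
  · have := inner b c 12 _ _ vb vc; simp at this; linarith
  · have := inner b u 12 _ _ vb vu; simp at this; linarith
  · have := inner b w 12 _ _ vb vw; simp at this; linarith
  · have := inner c u 12 _ _ vc vu; simp at this; linarith
  · have := inner c w 12 _ _ vc vw; simp at this; linarith
  · have := inner u w 12 _ _ vu vw; simp at this; linarith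
  · intro χ; rw [tT, t4, t8]; exact d5 χ
  · simp only [tT, t8]
    have e := heq (ι fM)
    rw [h.pairs_eight, mul_zero, Nat.cast_zero, mul_zero] at e
    have e' := congrArg Complex.re e
    simp only [hA, hFc] at e'
    apply Rat.cast_injective (α := ℝ)
    push_cast
    rw [Complex.re_sum, Complex.zero_re] at e'
    refine (Finset.sum_congr rfl fun χ _ => ?_).trans e'
    rw [← coe_charDegree]
    simp [hwI, ← Complex.ofReal_intCast, ← Complex.ofReal_natCast, ← Complex.ofReal_pow,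
      ← Complex.ofReal_div, ← Complex.ofReal_mul]
  · simp only [tT, t6]
    have e := heq (ι sixM)
    rw [h.pairs_six] at e
    simp only [hA, hB, map_intCast, ← coe_charDegree] at e
    apply Rat.cast_injective (α := ℂ)
    push_cast at e ⊢
    rw [e]
    ring

end CfsgLib.GLTwoThree
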