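import Cfsg.Agent.GLTwoThree.Frames
import Cfsg.Agent.ExtremelyClosed.FourFactor
import Cfsg.Agent.SylowToolkit.Basic
import Mathlib

/-!
The centralizer of an element of order three when the order of the group is 5616.
-/

set_option autoImplicit false

namespace CfsgLib.GLTwoThree

open Cfsg CfsgLib.ExtremelyClosed

universe u

variable {G : Type u} [Group G] [Finite G] {t : G} {ι : M23 →* G}

theorem Hyp.isConj_of_invol (h : Hyp t ι) (h32 : ¬ 32 ∣ Nat.card G) {y : G} (h2 : y * y = 1)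
    (h1 : y ≠ 1) : IsConj t y := by
  haveI : Fact (Nat.Prime 2) := ⟨Nat.prime_two⟩
  set T : Subgroup G := sylT.map ι with hT
  have hcard : Nat.card T = 16 := by
    rw [← Nat.card_congr (sylT.equivMapOfInjective ι h.inj).toEquiv,
      ← Nat.card_congr (Equiv.ofBijective (fun k => (⟨sylEl k, ⟨k, rfl⟩⟩ : sylT))
        ⟨fun i j hij => sylEl_facts.1 i j (congrArg Subtype.val hij), fun v => by
          obtain ⟨k, hk⟩ := v.2
          exact ⟨k, Subtype.ext hk⟩⟩), Nat.card_fin]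
  have hTp : IsPGroup 2 T := IsPGroup.of_card (n := 4) hcard
  obtain ⟨P, hP⟩ := hTp.exists_le_sylow
  have hPT : (P : Subgroup G) = T := by
    refine (Subgroup.eq_of_le_of_card_ge hP ?_).symm
    obtain ⟨k, hk⟩ := IsPGroup.iff_card.mp P.2
    have hk4 : k ≤ 4 := by
      by_contra hk5
      refine h32 ((Nat.pow_dvd_pow 2 (show 5 ≤ k by omega)).trans ?_)
      rw [← hk]
      exact Subgroup.card_subgroup_dvd_card _
    rw [hk, hcard]
    exact Nat.pow_le_pow_right two_pos hk4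
  have hy : orderOf y = 2 := orderOf_eq_prime (by rw [pow_two, h2]) h1
  obtain ⟨Q, hQ⟩ := (IsPGroup.of_card (p := 2) (n := 1) (G := Subgroup.zpowers y)
    (by rw [Nat.card_zpowers, hy, pow_one])).exists_le_sylow
  obtain ⟨g, hg⟩ := MulAction.exists_smul_eq G Q P
  have hmem : g * y * g⁻¹ ∈ T := by
    rw [← hPT, ← hg, Sylow.coe_subgroup_smul]
    exact Subgroup.smul_mem_pointwise_smul y (MulAut.conj g) _ (hQ (Subgroup.mem_zpowers y))
  obtain ⟨m, -, hm⟩ := hmem
  have hm2 : m * m = 1 := h.inj (by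
    rw [map_mul, hm, map_one, show g * y * g⁻¹ * (g * y * g⁻¹) = g * (y * y) * g⁻¹ by group, h2,
      mul_one, mul_inv_cancel])
  refine (h.isConj_invol hm2 fun e => h1 ?_).trans (isConj_iff.mpr ⟨g⁻¹, by rw [hm]; group⟩)
  rw [e, map_one] at hm
  exact conj_eq_one_iff.mp hm.symm

/-- Elements of order three with a centralizing involution are all conjugate, compatibly. -/
theorem Hyp.axis (h : Hyp t ι) {x y : G} (hy : IsConj t y) (hxy : Commute x y) (h3 : x ^ 3 = 1)
    (h1 : x ≠ 1) : ∃ g, g * t * g⁻¹ = y ∧ g * ι uM * g⁻¹ = x := by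
  obtain ⟨g₀, hg₀⟩ := isConj_iff.mp hy
  have h' := h.transport g₀
  rw [hg₀] at h'
  obtain ⟨g₁, hg₁, hx⟩ := h'.conj_cube hxy h3 h1
  refine ⟨g₁ * g₀, ?_, ?_⟩
  · rw [show g₁ * g₀ * t * (g₁ * g₀)⁻¹ = g₁ * (g₀ * t * g₀⁻¹) * g₁⁻¹ by group, hg₀, hg₁.eq,
      mul_inv_cancel_right]
  · rw [← hx]
    simp only [MonoidHom.comp_apply, MulEquiv.coe_toMonoidHom, MulAut.conj_apply]
    group

theorem Hyp.card_inter (h : Hyp t ι) {y : G} (hy : IsConj t y) {O : Subgroup G}
    (hO : Odd (Nat.card O)) :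
    Nat.card (O ⊓ Subgroup.centralizer ({y} : Set G) : Subgroup G) ∣ 3 := by
  obtain ⟨ι', h'⟩ := h.of_isConj hy
  have h48 : Nat.card (Subgroup.centralizer ({y} : Set G)) = 48 := by
    rw [← h'.map_z, h'.card_centralizer zM 1 (pow_one _), card_comm, card_mats.1]
  have h1 := Subgroup.card_dvd_of_le
    (inf_le_right : O ⊓ Subgroup.centralizer ({y} : Set G) ≤ Subgroup.centralizer {y})
  rw [h48] at h1
  exact (Nat.Coprime.pow_right 4 (Nat.coprime_two_right.mpr
    (hO.of_dvd_nat (Subgroup.card_dvd_of_le inf_le_left)))).dvd_of_dvd_mul_left h1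

theorem Hyp.eq_one_of_commute_both (h : Hyp t ι) {x : G} (hxt : Commute x t)
    (hxs : Commute x (ι sM)) (hx : Odd (orderOf x)) : x = 1 := by
  obtain ⟨m, rfl⟩ := h.mem x hxt.eq
  have hm : m * sM = sM * m := h.inj (by rw [map_mul, map_mul, hxs.eq])
  have h2 := centralizer_s m.val (det_ne m) (by rw [← Units.val_mul, hm, Units.val_mul])
  have h2' : ι m * ι m = 1 := by
    rw [← map_mul, show m * m = 1 from Units.ext h2, map_one]
  exact eq_one_of_eq_inv hx (inv_eq_of_mul_eq_one_right h2')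

/-- The data attached to the root element `ι uM`. -/
structure Core (t : G) (ι : M23 →* G) (O : Subgroup G) : Prop where
  mem : ∀ x, x ∈ O ↔ Commute x (ι uM) ∧ Odd (orderOf x)
  odd : Odd (Nat.card O)
  cent : Nat.card (Subgroup.centralizer ({ι uM} : Set G)) = 2 * Nat.card O

namespace Core

variable {O : Subgroup G}

theorem u_mem (hC : Core t ι O) : ι uM ∈ O :=
  (hC.mem _).mpr ⟨Commute.refl _, by
    have h3 : orderOf (ι uM) ∣ 3 := orderOf_dvd_of_pow_eq_one (by
      rw [← map_pow, root_facts.1, map_one])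
    exact (show Odd 3 by decide).of_dvd_nat h3⟩

theorem conj_mem (h : Hyp t ι) (hC : Core t ι O) {z : G} (hz : z = t ∨ z = ι sM ∨ z = t * ι sM) :
    ∀ x ∈ O, z * x * z⁻¹ ∈ O := by
  intro x hx
  obtain ⟨hc, ho⟩ := (hC.mem x).mp hx
  refine (hC.mem _).mpr ⟨?_, ?_⟩
  · have key : z * ι uM * z⁻¹ = ι uM ∨ z * ι uM * z⁻¹ = (ι uM)⁻¹ := by
      have hs : ι sM * ι uM * (ι sM)⁻¹ = (ι uM)⁻¹ := by
        rw [← map_inv, ← map_inv, ← map_mul, ← map_mul, root_facts.2.2.2.1]
      rcases hz with rfl | rfl | rfl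
      · exact .inl (by rw [← h.comm_t, mul_inv_cancel_right])
      · exact .inr hs
      · refine .inr ?_
        rw [show t * ι sM * ι uM * (t * ι sM)⁻¹ = t * (ι sM * ι uM * (ι sM)⁻¹) * t⁻¹ by group,
          hs, ← map_inv, ← h.comm_t, mul_inv_cancel_right]
    have hc' := hc.map (MulAut.conj z).toMonoidHom
    simp only [MulEquiv.coe_toMonoidHom, MulAut.conj_apply] at hc'
    rcases key with e | e <;> rw [e] at hc'
    · exact hc'
    · simpa using hc'.inv_right
  · rwa [show z * x * z⁻¹ = (MulAut.conj z).toMonoidHom x from rfl,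
      orderOf_injective (MulAut.conj z).toMonoidHom (MulAut.conj z).injective]

theorem factor (h : Hyp t ι) (hC : Core t ι O) {x : G} (hx : x ∈ O) :
    ∃ x₁ ∈ O, Commute x₁ t ∧ ∃ x₂ ∈ O, Commute x₂ (ι sM) ∧
      ∃ x₃ ∈ O, Commute x₃ (t * ι sM) ∧ x = x₁ * x₂ * x₃ := by
  obtain ⟨htt, -⟩ := orderOf_eq h
  obtain ⟨a, ha, ha', b, hb, hb', c, hc, hc', e⟩ := exists_three_factor hC.odd (a := t) (b := ι sM)
    (h.comm_t sM).symm htt (by rw [← map_mul, facts.2.2.2.2.1, map_one])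
    (conj_mem h hC (.inl rfl)) (conj_mem h hC (.inr (.inl rfl))) hx
  exact ⟨a, ha, ha'.symm, b, hb, hb'.symm, c, hc, hc'.symm, e⟩

theorem at_t (h : Hyp t ι) (hC : Core t ι O) {x : G} (hx : x ∈ O) (hxt : Commute x t) :
    x = 1 ∨ x = ι uM ∨ x = (ι uM)⁻¹ := by
  obtain ⟨hc, ho⟩ := (hC.mem x).mp hx
  have h3 := h.odd_cube hxt ho
  obtain ⟨m, rfl⟩ := h.mem x hxt.eq
  have hmu : m * uM = uM * m := h.inj (by rw [map_mul, map_mul, hc.eq])
  have hm3 : m * (m * m) = 1 := h.inj (by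
    rw [map_mul, map_mul, map_one, ← h3, pow_succ, pow_two, mul_assoc])
  rcases centralizer_u m.val (by rw [← Units.val_mul, hmu, Units.val_mul])
    (by rw [← Units.val_mul, ← Units.val_mul, hm3, Units.val_one]) with e | e | e
  · exact .inl (by rw [show m = 1 from Units.ext e, map_one])
  · exact .inr (.inl (by rw [show m = uM from Units.ext e]))
  · exact .inr (.inr (by rw [show m = uM⁻¹ from Units.ext e, map_inv]))

/-- The inner involution of the second axis, and that of the third. -/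
theorem conj_other (h : Hyp t ι) : IsConj t (ι sM) ∧ IsConj t (t * ι sM) := by
  refine ⟨h.fused, ?_⟩
  obtain ⟨-, -, -, -, -, -, -, -, -, h2, h1, -, -, -⟩ := root_facts
  rw [← h.map_z, ← map_mul, h.map_z]
  exact h.isConj_invol h2 h1

end Core

/-- With order 5616 the core has order 27. -/
theorem Hyp.core_card (h : Hyp t ι) (hN : Nat.card G = 5616) {O : Subgroup G} (hC : Core t ι O) :
    Nat.card O = 27 := by
  classical
  haveI : Fact (Nat.Prime 3) := ⟨by norm_num⟩
  obtain ⟨htt, ht1⟩ := orderOf_eq h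
  obtain ⟨hcs, hcts⟩ := Core.conj_other h
  set a := ι uM with ha
  have ha3 : a ^ 3 = 1 := by rw [ha, ← map_pow, root_facts.1, map_one]
  have ha1 : a ≠ 1 := fun e => root_facts.2.1 (h.inj (by rw [← ha, e, map_one]))
  have hao : orderOf a = 3 := orderOf_eq_prime ha3 ha1
  have hat : Commute a t := h.comm_t uM
  let A₁ := O ⊓ Subgroup.centralizer ({t} : Set G)
  let A₂ := O ⊓ Subgroup.centralizer ({ι sM} : Set G)
  let A₃ := O ⊓ Subgroup.centralizer ({t * ι sM} : Set G)
  have hmemA : ∀ {x y : G}, x ∈ O ⊓ Subgroup.centralizer ({y} : Set G) ↔ x ∈ O ∧ Commute x y :=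
    fun {x y} => and_congr Iff.rfl Subgroup.mem_centralizer_singleton_iff
  have hle : Nat.card O ≤ 27 := by
    have hs : Function.Surjective (fun p : A₁ × A₂ × A₃ => (⟨(p.1 : G) * p.2.1 * p.2.2,
        mul_mem (mul_mem (hmemA.mp p.1.2).1 (hmemA.mp p.2.1.2).1) (hmemA.mp p.2.2.2).1⟩ : O)) := by
      intro x
      obtain ⟨x₁, h₁, c₁, x₂, h₂, c₂, x₃, h₃, c₃, e⟩ := Core.factor h hC x.2
      exact ⟨(⟨x₁, hmemA.mpr ⟨h₁, c₁⟩⟩, ⟨x₂, hmemA.mpr ⟨h₂, c₂⟩⟩, ⟨x₃, hmemA.mpr ⟨h₃, c₃⟩⟩),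
        Subtype.ext e.symm⟩
    have h1 := Nat.le_of_dvd (by norm_num) (h.card_inter (IsConj.refl t) hC.odd)
    have h2 := Nat.le_of_dvd (by norm_num) (h.card_inter hcs hC.odd)
    have h3 := Nat.le_of_dvd (by norm_num) (h.card_inter hcts hC.odd)
    calc Nat.card O ≤ Nat.card (A₁ × A₂ × A₃) := Nat.card_le_card_of_surjective _ hs
      _ = Nat.card A₁ * (Nat.card A₂ * Nat.card A₃) := by simp only [Nat.card_prod]
      _ ≤ 3 * (3 * 3) := Nat.mul_le_mul h1 (Nat.mul_le_mul h2 h3)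
  have hd351 : Nat.card O ∣ 351 := by
    have hd := Subgroup.card_subgroup_dvd_card O
    rw [hN, show 5616 = 2 ^ 4 * 351 by norm_num] at hd
    exact (Nat.Coprime.pow_right 4 (Nat.coprime_two_right.mpr hC.odd)).dvd_of_dvd_mul_left hd
  have hd3 : 3 ∣ Nat.card O := hao ▸ Subgroup.orderOf_dvd_natCard O hC.u_mem
  obtain ⟨k, hk⟩ : ∃ k, Nat.card O = 3 ^ k := by
    obtain ⟨j, hj⟩ := hd3
    rw [hj] at hd351 hle ⊢
    have hj9 : j ≤ 9 := by omega
    interval_cases j <;> first | exact ⟨1, rfl⟩ | exact ⟨2, rfl⟩ | exact ⟨3, rfl⟩ |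
      norm_num at hd351
  by_contra h27
  have hk2 : k ≤ 2 := by
    by_contra hk'
    have := Nat.pow_le_pow_right (show 0 < 3 by norm_num) (show 3 ≤ k by omega)
    omega
  have hk9 : Nat.card O ≤ 9 := hk ▸ Nat.pow_le_pow_right (show 0 < 3 by norm_num) hk2
  obtain ⟨P, hOP⟩ := (IsPGroup.of_card hk).exists_le_sylow
  have hP : Nat.card (P : Subgroup G) = 27 :=
    SylowToolkit.card_sylow_subgroup_eq (k := 3) (m := 208) (by rw [hN]; norm_num) (by norm_num) P
  haveI : Nontrivial (P : Subgroup G) := Finite.one_lt_card_iff_nontrivial.mp (by omega)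
  haveI : Nontrivial (Subgroup.center (P : Subgroup G)) := P.2.center_nontrivial
  obtain ⟨⟨⟨c, hcP⟩, hcz⟩, hc1⟩ := exists_ne (1 : Subgroup.center (P : Subgroup G))
  have hcc : ∀ p ∈ (P : Subgroup G), Commute c p := fun p hp =>
    (congrArg Subtype.val (Subgroup.mem_center_iff.mp hcz ⟨p, hp⟩)).symm
  have hc1' : c ≠ 1 := fun e => hc1 (Subtype.ext (Subtype.ext e))
  have hPo : ∀ {p : G}, p ∈ (P : Subgroup G) → Odd (orderOf p) := fun hp =>
    (show Odd 27 by decide).of_dvd_nat (hP ▸ Subgroup.orderOf_dvd_natCard _ hp)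
  have hcO : c ∈ O := (hC.mem c).mpr ⟨hcc a (hOP hC.u_mem), hPo hcP⟩
  have hc3 : c ^ 3 = 1 := by
    have hd := Subgroup.orderOf_dvd_natCard O hcO
    obtain ⟨ι₀, h₀⟩ := h.of_isConj (IsConj.refl t)
    rw [hk] at hd
    have hcen : orderOf c ∣ 3 := by
      by_contra hne
      obtain ⟨i, hi, he⟩ := (Nat.dvd_prime_pow (by norm_num : Nat.Prime 3)).mp hd
      have hi2 : i = 2 := by
        rcases Nat.lt_or_ge i 2 with hlt | hge
        · exact absurd (he ▸ by interval_cases i <;> norm_num) hne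
        · omega
      subst hi2
      have hcyc : Subgroup.zpowers c = O := Subgroup.eq_of_le_of_card_ge
        (Subgroup.zpowers_le.mpr hcO) (by rw [Nat.card_zpowers, he]; omega)
      have h3' : c ^ 3 ∈ O := pow_mem hcO 3
      have hamem : a ∈ Subgroup.zpowers c := hcyc ▸ hC.u_mem
      obtain ⟨x₁, hx₁, cx₁, x₂, hx₂, cx₂, x₃, hx₃, cx₃, e⟩ := Core.factor h hC hcO
      have hcube : ∀ {x : G} {y : G}, IsConj t y → x ∈ O → Commute x y → x ^ 3 = 1 := by
        intro x y hy hx hxy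
        obtain ⟨ι', h'⟩ := h.of_isConj hy
        exact h'.odd_cube hxy ((hC.mem x).mp hx).2
      have hcomm : ∀ {x y : G}, x ∈ O → y ∈ O → Commute x y := by
        intro x y hx hy
        rw [← hcyc] at hx hy
        obtain ⟨i, rfl⟩ := Subgroup.mem_zpowers_iff.mp hx
        obtain ⟨j, rfl⟩ := Subgroup.mem_zpowers_iff.mp hy
        exact ((Commute.refl c).zpow_left i).zpow_right j
      have : c ^ 3 = 1 := by
        rw [e, (hcomm (mul_mem hx₁ hx₂) hx₃).mul_pow, (hcomm hx₁ hx₂).mul_pow,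
          hcube (IsConj.refl t) hx₁ cx₁, hcube hcs hx₂ cx₂, hcube hcts hx₃ cx₃, one_mul, one_mul]
      exact absurd (orderOf_dvd_of_pow_eq_one this) hne
    exact orderOf_dvd_iff_pow_eq_one.mp hcen
  have hPC : ∀ {y : G}, IsConj t y → Commute c y → False := by
    intro y hy hcy
    obtain ⟨g, -, hg⟩ := h.axis hy hcy hc3 hc1'
    have hcard : Nat.card (Subgroup.centralizer ({c} : Set G)) = 2 * Nat.card O := by
      rw [← hC.cent]
      refine (Nat.card_congr (((MulAut.conj g).subgroupMap _).toEquiv.trans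
        (MulEquiv.subgroupCongr ?_).toEquiv)).symm
      ext w
      simp only [Subgroup.mem_map, MulEquiv.coe_toMonoidHom, MonoidHom.coe_coe, MulAut.conj_apply,
        Subgroup.mem_centralizer_singleton_iff]
      constructor
      · rintro ⟨v, hv, rfl⟩
        rw [← hg, ← ha]
        calc g * v * g⁻¹ * (g * a * g⁻¹) = g * (v * a) * g⁻¹ := by group
          _ = g * (a * v) * g⁻¹ := by rw [hv]
          _ = _ := by group
      · intro hw
        refine ⟨g⁻¹ * w * g, ?_, by group⟩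
        rw [← hg, ← ha] at hw
        calc g⁻¹ * w * g * a = g⁻¹ * (w * (g * a * g⁻¹)) * g := by group
          _ = g⁻¹ * (g * a * g⁻¹ * w) * g := by rw [hw]
          _ = _ := by rw [ha]; group
    have hPle : (P : Subgroup G) ≤ Subgroup.centralizer ({c} : Set G) := fun p hp =>
      Subgroup.mem_centralizer_singleton_iff.mpr (hcc p hp).symm.eq
    have hd := Subgroup.card_dvd_of_le hPle
    rw [hP, hcard] at hd
    have := Nat.le_of_dvd (Nat.mul_pos two_pos Nat.card_pos) hd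
    omega
  have hct : ¬ Commute c t := hPC (IsConj.refl t)
  -- an element of `P` normalizing but not lying in `O`
  obtain ⟨g, hgP, hgO, hgn⟩ : ∃ g ∈ (P : Subgroup G), g ∉ O ∧ ∀ x ∈ O, g * x * g⁻¹ ∈ O := by
    have hne : O.subgroupOf (P : Subgroup G) ≠ ⊤ := by
      intro e
      have := Nat.card_congr (Subgroup.subgroupOfEquivOfLe hOP).toEquiv
      rw [e, Subgroup.card_top] at this
      omega
    haveI : Group.IsNilpotent (P : Subgroup G) := P.2.isNilpotent
    obtain ⟨g, hg, hg'⟩ := SetLike.exists_of_lt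
      (Group.normalizerCondition_of_isNilpotent _ (lt_top_iff_ne_top.mpr hne))
    exact ⟨g, g.2, fun e => hg' (Subgroup.mem_subgroupOf.mpr e), fun x hx =>
      Subgroup.mem_subgroupOf.mp ((Subgroup.mem_normalizer_iff.mp hg ⟨x, hOP hx⟩).mp hx)⟩
  have hgodd := hPo hgP
  have hga : ¬ (g * a * g⁻¹ = a ∨ g * a * g⁻¹ = a⁻¹) := by
    rintro (e | e)
    · exact hgO ((hC.mem g).mpr ⟨mul_inv_eq_iff_eq_mul.mp e, hgodd⟩)
    · exact ha1 (eq_one_of_conj_eq_inv hgodd ((hC.mem a).mp hC.u_mem).2 e)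
  -- the conjugate of `a`
  set b := g * a * g⁻¹ with hb
  have hbO : b ∈ O := hgn a hC.u_mem
  have hbt : ¬ Commute b t := fun e => by
    rcases Core.at_t h hC hbO e with e' | e' | e'
    · exact ha1 (conj_eq_one_iff.mp e')
    · exact hga (.inl e')
    · exact hga (.inr e')


  -- every element of `O` is a power of `a` times a power of any element off `⟨a⟩`
  have hO9 : Nat.card O = 9 := by
    have : Subgroup.zpowers a < O := lt_of_le_of_ne (Subgroup.zpowers_le.mpr hC.u_mem) fun e => by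
      obtain ⟨i, hi⟩ := Subgroup.mem_zpowers_iff.mp (e ▸ hcO : c ∈ Subgroup.zpowers a)
      exact hct (hi ▸ hat.zpow_left i)
    have h3 := Set.ncard_lt_ncard (SetLike.coe_ssubset_coe.mpr this) (Set.toFinite _)
    rw [← Nat.card_coe_set_eq, ← Nat.card_coe_set_eq] at h3
    change Nat.card (Subgroup.zpowers a) < Nat.card O at h3
    rw [Nat.card_zpowers, hao] at h3
    interval_cases k <;> omega
  haveI : Fact (Nat.Prime 3) := ⟨by norm_num⟩
  have hcomm : ∀ x ∈ O, ∀ y ∈ O, Commute x y := by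
    intro x hx y hy
    have := IsPGroup.commutative_of_card_eq_prime_sq (p := 3) (G := O) (by rw [hO9]; norm_num)
    exact congrArg Subtype.val (this ⟨x, hx⟩ ⟨y, hy⟩)
  -- an element of the second or third axis
  obtain ⟨z, y, hzz, hzc, hy1, hyO, hyz⟩ : ∃ z y : G, (z = ι sM ∨ z = t * ι sM) ∧ IsConj t z ∧
      y ≠ 1 ∧ y ∈ O ∧ Commute y z := by
    obtain ⟨x₁, hx₁, cx₁, x₂, hx₂, cx₂, x₃, hx₃, cx₃, e⟩ := Core.factor h hC hcO
    by_cases h2 : x₂ = 1
    · refine ⟨_, x₃, .inr rfl, hcts, fun h3 => hct ?_, hx₃, cx₃⟩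
      rw [e, h2, h3, mul_one, mul_one]
      exact cx₁
    · exact ⟨_, x₂, .inl rfl, hcs, h2, hx₂, cx₂⟩
  have hzt : z ≠ t ∧ ∀ x, Commute x t → Commute x z → Odd (orderOf x) → x = 1 := by
    rcases hzz with rfl | rfl
    · exact ⟨fun e => root_facts.2.2.2.2.2.2.2.1 (h.inj (by rw [e, h.map_z])),
        fun x h1 h2 h3 => h.eq_one_of_commute_both h1 h2 h3⟩
    · refine ⟨fun e => root_facts.2.2.2.2.2.2.2.2.1 (h.inj ?_), fun x h1 h2 h3 =>
        h.eq_one_of_commute_both h1 ?_ h3⟩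
      · rw [mul_eq_left] at e
        rw [e, map_one]
      · have := h1.mul_right h2
        rwa [← mul_assoc, htt, one_mul] at this
  have hy3 : y ^ 3 = 1 := by
    obtain ⟨ι', h'⟩ := h.of_isConj hzc
    exact h'.odd_cube hyz ((hC.mem y).mp hyO).2
  have hyt : ¬ Commute y t := fun e => hy1 (hzt.2 y e hyz ((hC.mem y).mp hyO).2)
  -- `t` inverts `y`
  have hty : t * y * t⁻¹ = y⁻¹ := by
    have hmem := Core.conj_mem h hC (.inl rfl) y hyO
    have hyo : orderOf y = 3 := orderOf_eq_prime hy3 hy1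
    have hsplit := ExtremelyClosed.exists_split hC.odd htt (Core.conj_mem h hC (.inl rfl)) hyO
    obtain ⟨d, hd, hdc, i, hi, hti, hyi, -⟩ := hsplit
    have htz : t * z = z * t := by
      rcases hzz with rfl | rfl
      · exact (h.comm_t sM).symm
      · rw [mul_assoc, h.comm_t sM]
    have hzconj : ∀ w ∈ O, z * w * z⁻¹ ∈ O := Core.conj_mem h hC (hzz.elim (fun e => .inr (.inl e))
      fun e => .inr (.inr e))
    have huniq := split_unique hC.odd (a := t) (c := z * d * z⁻¹) (c' := d) (i := z * i * z⁻¹)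
      (i' := i) (hzconj d hd) hd (hzconj i hi) (by
        have := hdc.map (MulAut.conj z).toMonoidHom
        simp only [MulEquiv.coe_toMonoidHom, MulAut.conj_apply] at this
        rwa [← htz, mul_inv_cancel_right] at this) hdc (by
        calc t * (z * i * z⁻¹) * t⁻¹ = (t * z) * i * (t * z)⁻¹ := by group
          _ = z * (t * i * t⁻¹) * z⁻¹ := by rw [htz]; group
          _ = (z * i * z⁻¹)⁻¹ := by rw [hti]; group) hti (by
        rw [conj_mul, ← hyi, ← hyz.eq, mul_inv_cancel_right])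
    have hd1 : d = 1 := hzt.2 d hdc.symm (mul_inv_eq_iff_eq_mul.mp huniq.1).symm
      ((hC.mem d).mp hd).2
    rw [hd1, one_mul] at hyi
    rw [hyi, hti]
  have hta : t * a * t⁻¹ = a := by rw [ha, ← h.comm_t, mul_inv_cancel_right]
  have hya : y ∉ Subgroup.zpowers a := fun e => by
    obtain ⟨i, hi⟩ := Subgroup.mem_zpowers_iff.mp e
    exact hyt (hi ▸ hat.zpow_left i)
  have hspan : ∀ x ∈ O, ∃ i j : Fin 3, x = a ^ (i : ℕ) * y ^ (j : ℕ) := by
    have hinj : Function.Injective (fun p : Fin 3 × Fin 3 => (⟨a ^ (p.1 : ℕ) * y ^ (p.2 : ℕ),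
        mul_mem (pow_mem hC.u_mem _) (pow_mem hyO _)⟩ : O)) := by
      rintro ⟨i, j⟩ ⟨i', j'⟩ e
      have e' : a ^ (i : ℕ) * y ^ (j : ℕ) = a ^ (i' : ℕ) * y ^ (j' : ℕ) := congrArg Subtype.val e
      have e'' : t * (a ^ (i : ℕ) * y ^ (j : ℕ)) * t⁻¹ = t * (a ^ (i' : ℕ) * y ^ (j' : ℕ)) * t⁻¹ := by
        rw [e']
      rw [← conj_mul, ← conj_mul, ← conj_pow, ← conj_pow, ← conj_pow, ← conj_pow, hta, hty] at e''
      have hyo : orderOf y = 3 := orderOf_eq_prime hy3 hy1
      have hii : i = i' := by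
        by_contra hne
        have hdiv : a ^ ((i' : ℕ) + (3 - i)) ∈ Subgroup.zpowers y := by
          refine ⟨(j : ℤ) - j', ?_⟩
          have h1 : a ^ (i' : ℕ) = a ^ (i : ℕ) * (y ^ (j : ℕ) * (y ^ (j' : ℕ))⁻¹) := by
            rw [← mul_assoc, e', mul_inv_cancel_right]
          simp only
          rw [zpow_sub, zpow_natCast, zpow_natCast, pow_add, h1,
            (hcomm _ (pow_mem hC.u_mem _) _ (mul_mem (pow_mem hyO _) (inv_mem (pow_mem hyO _)))).eq,
            mul_assoc, ← pow_add, Nat.add_sub_cancel' (by omega : (i : ℕ) ≤ 3), ha3, mul_one]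
        obtain ⟨n, hn⟩ := hdiv
        simp only at hn
        have h1 : a ^ ((i' : ℕ) + (3 - i)) = 1 := hn ▸ hzt.2 _
          (hn ▸ hat.pow_left _) (hyz.zpow_left n)
          (((hC.mem _).mp (zpow_mem hyO n)).2)
        rw [← orderOf_dvd_iff_pow_eq_one, hao] at h1
        omega
      subst hii
      have hjj := mul_left_cancel e'
      have := pow_injOn_Iio_orderOf (x := y) (by simp [hyo, j.isLt]) (by simp [hyo, j'.isLt]) hjj
      exact Prod.ext rfl (Fin.ext this)
    intro x hx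
    have hbij := (Nat.bijective_iff_injective_and_card _).mpr ⟨hinj, by
      rw [Nat.card_prod, Nat.card_fin, hO9]⟩
    obtain ⟨⟨i, j⟩, e⟩ := hbij.2 ⟨x, hx⟩
    exact ⟨i, j, (congrArg Subtype.val e).symm⟩
  -- conjugates of `a` in `O` commute with `t` or with `z`
  have hdich : ∀ x ∈ O, IsConj a x → Commute x t ∨ Commute x z := by
    intro x hx hax
    by_contra hne
    rw [not_or] at hne
    obtain ⟨i, j, rfl⟩ := hspan x hx
    obtain ⟨i', j', hc'⟩ := hspan c hcO
    have hcz' : ¬ Commute c z := hPC hzc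
    have hi0 : (i : ℕ) ≠ 0 := fun e => hne.2 (by
      rw [e, pow_zero, one_mul]; exact hyz.pow_left _)
    have hj0 : (j : ℕ) ≠ 0 := fun e => hne.1 (by
      rw [e, pow_zero, mul_one]; exact hat.pow_left _)
    have hi0' : (i' : ℕ) ≠ 0 := fun e => hcz' (by
      rw [hc', e, pow_zero, one_mul]; exact hyz.pow_left _)
    have hj0' : (j' : ℕ) ≠ 0 := fun e => hct (by
      rw [hc', e, pow_zero, mul_one]; exact hat.pow_left _)
    have hza : z * a * z⁻¹ = a⁻¹ := by
      have hs : ι sM * a * (ι sM)⁻¹ = a⁻¹ := by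
        rw [ha, ← map_inv, ← map_inv, ← map_mul, ← map_mul, root_facts.2.2.2.1]
      rcases hzz with rfl | rfl
      · exact hs
      · calc t * ι sM * a * (t * ι sM)⁻¹ = t * (ι sM * a * (ι sM)⁻¹) * t⁻¹ := by group
          _ = a⁻¹ := by rw [hs, ← conj_inv, hta]
    have hzy' : z * y * z⁻¹ = y := by rw [← hyz.eq, mul_inv_cancel_right]
    have hinvp : ∀ {w : G}, w ^ 3 = 1 → ∀ n m : Fin 3, (n : ℕ) ≠ 0 → (m : ℕ) ≠ 0 → n ≠ m →
        (w ^ (n : ℕ))⁻¹ = w ^ (m : ℕ) := by
      intro w hw n m hn hm hnm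
      refine inv_eq_of_mul_eq_one_right ?_
      rw [← pow_add, show (n : ℕ) + m = 3 by omega, hw]
    have hcx : IsConj c (a ^ (i : ℕ) * y ^ (j : ℕ)) := by
      rw [hc']
      by_cases e1 : i' = i <;> by_cases e2 : j' = j
      · rw [e1, e2]
      · refine isConj_iff.mpr ⟨t, ?_⟩
        rw [← conj_mul, ← conj_pow, ← conj_pow, hta, hty, inv_pow, hinvp hy3 j' j hj0' hj0 e2, e1]
      · refine isConj_iff.mpr ⟨z, ?_⟩
        rw [← conj_mul, ← conj_pow, ← conj_pow, hza, hzy', inv_pow, hinvp ha3 i' i hi0' hi0 e1, e2]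
      · refine isConj_iff.mpr ⟨t * z, ?_⟩
        calc t * z * (a ^ (i' : ℕ) * y ^ (j' : ℕ)) * (t * z)⁻¹
            = t * ((z * a ^ (i' : ℕ) * z⁻¹) * (z * y ^ (j' : ℕ) * z⁻¹)) * t⁻¹ := by group
          _ = _ := by
            rw [← conj_pow, ← conj_pow, hza, hzy', inv_pow, hinvp ha3 i' i hi0' hi0 e1,
              ← conj_mul, ← conj_pow, ← conj_pow, hta, hty, inv_pow, hinvp hy3 j' j hj0' hj0 e2]
    obtain ⟨q, hq⟩ := isConj_iff.mp (hax.trans hcx.symm)
    refine hPC (y := q * t * q⁻¹) (isConj_iff.mpr ⟨q, rfl⟩) ?_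
    rw [← hq]
    exact hat.map (MulAut.conj q).toMonoidHom
  rcases hdich b hbO (isConj_iff.mpr ⟨g, rfl⟩) with e | e
  · exact hbt e
  -- `g` moves `b` to a third place
  set b' := g * b * g⁻¹ with hb'
  have hb'O : b' ∈ O := hgn b hbO
  rcases hdich b' hb'O (isConj_iff.mpr ⟨g * g, by rw [hb', hb]; group⟩) with e' | e'
  · rcases Core.at_t h hC hb'O e' with e'' | e'' | e''
    · rw [hb', conj_eq_one_iff, hb, conj_eq_one_iff] at e''
      exact ha1 e''
    · have hgg : Commute (g * g) a := mul_inv_eq_iff_eq_mul.mp (by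
        rw [show g * g * a * (g * g)⁻¹ = b' by rw [hb', hb]; group, e''])
      obtain ⟨n, hn⟩ := hgodd
      refine hga (.inl ?_)
      have hgc : Commute ((g * g) ^ (n + 1)) a := hgg.pow_left _
      rw [← pow_two, ← pow_mul, show 2 * (n + 1) = (2 * n + 1) + 1 by ring, pow_succ, ← hn,
        pow_orderOf_eq_one, one_mul] at hgc
      rw [hb, hgc.eq, mul_inv_cancel_right]
    · refine ha1 (eq_one_of_conj_eq_inv (g := g * g) (hPo (mul_mem hgP hgP))
        ((hC.mem a).mp hC.u_mem).2 ?_)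
      rw [show g * g * a * (g * g)⁻¹ = b' by rw [hb', hb]; group, e'']
  · -- both in the axis of `z`
    have hax : ∀ w ∈ O, Commute w z → ∃ n : ℕ, w = y ^ n := by
      intro w hw hwz
      obtain ⟨i, j, rfl⟩ := hspan w hw
      have h1 : Commute (a ^ (i : ℕ)) z := by
        have := hwz.mul_left ((hyz.pow_left (j : ℕ)).inv_left)
        rwa [mul_inv_cancel_right] at this
      refine ⟨j, ?_⟩
      rw [hzt.2 _ (hat.pow_left _) h1
        ((hC.mem _).mp (pow_mem hC.u_mem _)).2, one_mul]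
    obtain ⟨n, hn⟩ := hax b hbO e
    obtain ⟨n', hn'⟩ := hax b' hb'O e'
    refine hga ?_
    have hbo : orderOf b = 3 := by
      rw [hb, show g * a * g⁻¹ = (MulAut.conj g).toMonoidHom a from rfl,
        orderOf_injective _ (MulAut.conj g).injective, hao]
    have hzp : Subgroup.zpowers b = Subgroup.zpowers y := Subgroup.eq_of_le_of_card_ge
      (Subgroup.zpowers_le.mpr ⟨n, by simp [hn]⟩)
      (by rw [Nat.card_zpowers, Nat.card_zpowers, hbo, orderOf_eq_prime hy3 hy1])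
    have hb'z : b' ∈ Subgroup.zpowers b := hzp ▸ ⟨n', by simp [hn']⟩
    obtain ⟨q, hq⟩ := Subgroup.mem_zpowers_iff.mp hb'z
    have hbb : b = a ^ q := by
      have h1 : g * a ^ q * g⁻¹ = g * b * g⁻¹ := by rw [← conj_zpow, ← hb, hq, hb']
      exact (mul_left_cancel (mul_right_cancel h1)).symm
    exact absurd (hbb ▸ hat.zpow_left q) hbt

end CfsgLib.GLTwoThree
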